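import Groth.Agent.ProjForm.Unit
import Groth.Agent.FlatBCD.Square

/-!
Scalar action of `g_* O` on direct images, and the module identities behind base change.
-/

set_option autoImplicit false
set_option backward.isDefEq.respectTransparency false
set_option backward.isDefEq.respectTransparency.types false
set_option linter.style.haveILetI false
set_option linter.unusedSectionVars false

universe u

open CategoryTheory Limits Opposite TopologicalSpace MonoidalCategory AlgebraicGeometry TensorProduct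

namespace Groth.Agent.TorBC

open Groth.Agent.KFlat Groth.Agent.ProjForm

variable {X Y : Scheme.{u}}

/-- the structure module -/
noncomputable abbrev OO (X : Scheme.{u}) : X.Modules := Coh.structureModule X

/-- pure tensors in the tensor sheaf -/
noncomputable def tm {A B : X.Modules} {U : X.Opens} (a : Γ(A, U)) (b : Γ(B, U)) :
    Γ(((schB X).obj A).obj B, U) :=
  (shUnit (PT (DCoh.toP.obj A) (DCoh.toP.obj B))).app (op U) (ptmul (DCoh.toP.obj A) (DCoh.toP.obj B) a b)

/-- maps out of a tensor sheaf are determined on pure tensors -/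
theorem tens_ext {A B C : X.Modules} {φ ψ : ((schB X).obj A).obj B ⟶ C}
    (h : ∀ (U : X.Opens) (a : Γ(A, U)) (b : Γ(B, U)), φ.app U (tm a b) = ψ.app U (tm a b)) : φ = ψ := by
  let adj := PresheafOfModules.sheafificationAdjunction.{u} (R := X.ringCatSheaf) (𝟙 X.ringCatSheaf.obj)
  refine (adj.homEquiv _ _).injective ?_
  rw [adj.homEquiv_unit, adj.homEquiv_unit]
  refine PresheafOfModules.hom_ext fun U => ?_
  obtain ⟨U⟩ := U
  refine ModuleCat.hom_ext (LinearMap.ext fun t => ?_)
  induction t using TensorProduct.induction_on with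
  | zero => exact (map_zero _).trans (map_zero _).symm
  | tmul a b => exact h U a b
  | add a b ha hb => exact (map_add _ a b).trans ((congrArg₂ (· + ·) ha hb).trans (map_add _ a b).symm)

lemma tm_map_left {A A' B : X.Modules} (φ : A ⟶ A') {U : X.Opens} (a : Γ(A, U)) (b : Γ(B, U)) :
    (((schB X).map φ).app B).app U (tm a b) = tm (φ.app U a) b :=
  tens_map_left_app φ B U a b

lemma tm_map_right {A B B' : X.Modules} (φ : B ⟶ B') {U : X.Opens} (a : Γ(A, U)) (b : Γ(B, U)) :
    (((schB X).obj A).map φ).app U (tm a b) = tm a (φ.app U b) :=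
  tens_map_right_app A φ U a b

/-- the symmetry -/
noncomputable def brM (A B : X.Modules) : ((schB X).obj A).obj B ⟶ ((schB X).obj B).obj A :=
  ((braid X.sheaf).hom.app A).app B

lemma tm_braid {A B : X.Modules} {U : X.Opens} (a : Γ(A, U)) (b : Γ(B, U)) :
    (brM A B).app U (tm a b) = tm b a :=
  (congrArg (fun t : PT (DCoh.toP.obj A) (DCoh.toP.obj B) ⟶ _ => (t.app (op U)).hom (ptmul _ _ a b))
    (shUnit_natural (BraidedCategory.braiding (DCoh.toP.obj A) (DCoh.toP.obj B)).hom)).symm

lemma rho_smul (A : X.Modules) {U : X.Opens} (a : Γ(A, U)) (c : Γ(X, U)) :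
    (rho A).app U (c • a) = tm a (show Γ(OO X, U) from c) := by
  refine (rho_app A U (c • (show (DCoh.toP.obj A).obj (op U) from a))).trans ?_
  refine congrArg ((shUnit _).app (op U)) ?_
  refine (ptmul_smul_left _ _ _ _ _).trans ((ptmul_smul_right _ _ _ a
    (show (DCoh.toP.obj (OO X)).obj (op U) from (1 : Γ(X, U)))).symm.trans ?_)
  exact congrArg (ptmul _ _ a) (mul_one c)

/-- `A ⊗ O ⟶ A` -/
noncomputable def unitR (A : X.Modules) : ((schB X).obj A).obj (OO X) ⟶ A :=
  haveI := isIso_rho A
  inv (rho A)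

lemma unitR_app (A : X.Modules) {U : X.Opens} (a : Γ(A, U)) (c : Γ(X, U)) :
    (unitR A).app U (tm a (show Γ(OO X, U) from c)) = c • a := by
  haveI := isIso_rho A
  refine (congrArg ((unitR A).app U) (rho_smul A a c).symm).trans ?_
  rw [← ConcreteCategory.comp_apply, ← Scheme.Modules.Hom.comp_app]
  exact congrArg (fun t : A ⟶ A => t.app U (c • a)) (IsIso.hom_inv_id (rho A))

lemma unitR_natural {A B : X.Modules} (φ : A ⟶ B) :
    ((schB X).map φ).app (OO X) ≫ unitR B = unitR A ≫ φ := by
  refine tens_ext fun U a c => ?_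
  rw [Scheme.Modules.Hom.comp_app, Scheme.Modules.Hom.comp_app, ConcreteCategory.comp_apply,
    ConcreteCategory.comp_apply, tm_map_left]
  refine (unitR_app B (φ.app U a) _).trans ?_
  refine Eq.trans ?_ (congrArg (φ.app U) (unitR_app A a c)).symm
  exact (Scheme.Modules.Hom.app_smul φ _ a).symm

/-- `O ⊗ A ⟶ A` -/
noncomputable def unitL (A : X.Modules) : ((schB X).obj (OO X)).obj A ⟶ A :=
  brM (OO X) A ≫ unitR A

variable (g : Y ⟶ X)

/-- `g^* g_* O ⟶ O` -/
noncomputable def epsO : (Scheme.Modules.pullback g).obj ((Scheme.Modules.pushforward g).obj (OO Y)) ⟶ OO Y :=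
  (Scheme.Modules.pullbackPushforwardAdjunction g).counit.app (OO Y)

/-- the action of `g_* O` on `g_* D` -/
noncomputable def act (D : Y.Modules) :
    ((schB X).obj ((Scheme.Modules.pushforward g).obj D)).obj ((Scheme.Modules.pushforward g).obj (OO Y)) ⟶
      (Scheme.Modules.pushforward g).obj D :=
  projHom g D _ ≫ (Scheme.Modules.pushforward g).map (((schB Y).obj D).map (epsO g) ≫ unitR D)

lemma epsO_app {U : X.Opens} (c : Γ(Y, g ⁻¹ᵁ U)) :
    (epsO g).app (g ⁻¹ᵁ U)
      (pullSec g ((Scheme.Modules.pushforward g).obj (OO Y)) U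
        (show (DCoh.toP.obj ((Scheme.Modules.pushforward g).obj (OO Y))).obj (op U) from c)) = c :=
  congrArg (fun t => (t.app U).hom c)
    ((Scheme.Modules.pullbackPushforwardAdjunction g).right_triangle_components (OO Y))

lemma act_app (D : Y.Modules) {U : X.Opens} (d : Γ(D, g ⁻¹ᵁ U)) (c : Γ(Y, g ⁻¹ᵁ U)) :
    (act g D).app U (tm (A := (Scheme.Modules.pushforward g).obj D)
      (B := (Scheme.Modules.pushforward g).obj (OO Y)) d c) = c • d := by
  refine (congrArg (((((schB Y).obj D).map (epsO g) ≫ unitR D)).app (g ⁻¹ᵁ U))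
    (projHom_app g D ((Scheme.Modules.pushforward g).obj (OO Y)) U d
      (show (DCoh.toP.obj ((Scheme.Modules.pushforward g).obj (OO Y))).obj (op U) from c))).trans ?_
  refine (congrArg ((unitR D).app (g ⁻¹ᵁ U)) (tm_map_right (epsO g) (show Γ(D, g ⁻¹ᵁ U) from d) _)).trans ?_
  rw [epsO_app]
  exact unitR_app D d c

lemma act_natural {D D' : Y.Modules} (φ : D ⟶ D') :
    ((schB X).map ((Scheme.Modules.pushforward g).map φ)).app _ ≫ act g D' =
      act g D ≫ (Scheme.Modules.pushforward g).map φ := by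
  rw [act, act, ← Category.assoc, projHom_natural_left, Category.assoc, Category.assoc, ← Functor.map_comp,
    ← Functor.map_comp]
  congr 2
  have h := ((schB Y).map φ).naturality (epsO g)
  rw [← Category.assoc, ← h, Category.assoc, Category.assoc]
  exact congrArg (_ ≫ ·) (unitR_natural φ)

/-- the projection morphism for the structure sheaf and the action -/
theorem braid_projHom_eq_act (M : X.Modules) :
    brM M ((Scheme.Modules.pushforward g).obj (OO Y)) ≫ projHom g (OO Y) M ≫
        (Scheme.Modules.pushforward g).map (unitL _) =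
      ((schB X).map ((Scheme.Modules.pullbackPushforwardAdjunction g).unit.app M)).app _ ≫
        act g ((Scheme.Modules.pullback g).obj M) := by
  refine tens_ext fun U m c => ?_
  simp only [Scheme.Modules.Hom.comp_app, ConcreteCategory.comp_apply]
  refine Eq.trans ?_ ((congrArg ((act g _).app U) (tm_map_left
    ((Scheme.Modules.pullbackPushforwardAdjunction g).unit.app M) m c)).trans (act_app g _ _ _)).symm
  refine (congrArg (fun z => ((Scheme.Modules.pushforward g).map (unitL _)).app U ((projHom g (OO Y) M).app U z))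
    (tm_braid m c)).trans ?_
  refine (congrArg (((Scheme.Modules.pushforward g).map (unitL _)).app U)
    (projHom_app g (OO Y) M U c m)).trans ?_
  refine (congrArg ((unitR _).app (g ⁻¹ᵁ U))
    (tm_braid (show Γ(OO Y, g ⁻¹ᵁ U) from c) (show Γ((Scheme.Modules.pullback g).obj M, g ⁻¹ᵁ U) from pullSec g M U m))).trans ?_
  exact unitR_app _ _ c

variable {X' : Scheme.{u}} {g' : X' ⟶ X} {S S' : Scheme.{u}} {f : X ⟶ S} {g₀ : S' ⟶ S} {f' : X' ⟶ S'}

/-- `f^* g_* O ⟶ g'_* O` -/
noncomputable def beta (w : g' ≫ f = f' ≫ g₀) :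
    (Scheme.Modules.pullback f).obj ((Scheme.Modules.pushforward g₀).obj (OO S')) ⟶
      (Scheme.Modules.pushforward g').obj (OO X') :=
  ((Scheme.Modules.pullbackPushforwardAdjunction f).homEquiv _ _).symm
    ((Scheme.Modules.pushforward g₀).map (SheafOfModules.unitToPushforwardObjUnit f'.toRingCatSheafHom) ≫
      (FlatBCD.bcC w).inv.app (OO X'))

lemma beta_app (w : g' ≫ f = f' ≫ g₀) {U : S.Opens} (c : Γ(S', g₀ ⁻¹ᵁ U)) :
    (beta w).app (f ⁻¹ᵁ U)
      (pullSec f ((Scheme.Modules.pushforward g₀).obj (OO S')) U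
        (show (DCoh.toP.obj ((Scheme.Modules.pushforward g₀).obj (OO S'))).obj (op U) from c)) =
      QC.res (OO X') (show g' ⁻¹ᵁ (f ⁻¹ᵁ U) ≤ f' ⁻¹ᵁ (g₀ ⁻¹ᵁ U) by
        rw [← Scheme.Hom.comp_preimage, ← Scheme.Hom.comp_preimage, w]) ((f'.app (g₀ ⁻¹ᵁ U)).hom c) := by
  let adj := Scheme.Modules.pullbackPushforwardAdjunction f
  have h : adj.unit.app _ ≫ (Scheme.Modules.pushforward f).map (beta w) =
      (Scheme.Modules.pushforward g₀).map (SheafOfModules.unitToPushforwardObjUnit f'.toRingCatSheafHom) ≫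
        (FlatBCD.bcC w).inv.app (OO X') :=
    (adj.homEquiv_unit _ _ _).symm.trans (Equiv.apply_symm_apply _ _)
  exact congrArg (fun t : (Scheme.Modules.pushforward g₀).obj (OO S') ⟶ _ => (Scheme.Modules.Hom.app t U).hom
    (show Γ((Scheme.Modules.pushforward g₀).obj (OO S'), U) from c)) h

/-- the two routes from `f_* M ⊗ g_* O` to `g_* f'_* D` -/
theorem projHom_act (w : g' ≫ f = f' ≫ g₀) {M : X.Modules} {D : X'.Modules}
    (π : M ⟶ (Scheme.Modules.pushforward g').obj D) :
    projHom f M ((Scheme.Modules.pushforward g₀).obj (OO S')) ≫ (Scheme.Modules.pushforward f).map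
        (((schB X).obj M).map (beta w) ≫ ((schB X).map π).app _ ≫ act g' D) ≫ (FlatBCD.bcC w).hom.app D =
      ((schB S).map ((Scheme.Modules.pushforward f).map π ≫ (FlatBCD.bcC w).hom.app D)).app _ ≫
        act g₀ ((Scheme.Modules.pushforward f').obj D) := by
  refine tens_ext fun U m c => ?_
  simp only [Scheme.Modules.Hom.comp_app, ConcreteCategory.comp_apply]
  refine Eq.trans ?_ ((congrArg ((act g₀ _).app U) (tm_map_left
    ((Scheme.Modules.pushforward f).map π ≫ (FlatBCD.bcC w).hom.app D) m c)).trans (act_app g₀ _ _ _)).symm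
  refine (congrArg (((FlatBCD.bcC w).hom.app D).app U) (congrArg
    ((((schB X).obj M).map (beta w) ≫ ((schB X).map π).app _ ≫ act g' D).app (f ⁻¹ᵁ U))
    (projHom_app f M ((Scheme.Modules.pushforward g₀).obj (OO S')) U m
      (show (DCoh.toP.obj ((Scheme.Modules.pushforward g₀).obj (OO S'))).obj (op U) from c)))).trans ?_
  simp only [Scheme.Modules.Hom.comp_app, ConcreteCategory.comp_apply]
  refine (congrArg (fun z => ((FlatBCD.bcC w).hom.app D).app U ((act g' D).app (f ⁻¹ᵁ U)
    ((((schB X).map π).app _).app (f ⁻¹ᵁ U) z)))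
    (tm_map_right (beta w) (show Γ(M, f ⁻¹ᵁ U) from m) _)).trans ?_
  refine (congrArg (fun z => ((FlatBCD.bcC w).hom.app D).app U ((act g' D).app (f ⁻¹ᵁ U) z))
    (tm_map_left π (show Γ(M, f ⁻¹ᵁ U) from m) _)).trans ?_
  refine (congrArg (((FlatBCD.bcC w).hom.app D).app U) (act_app g' D _ _)).trans ?_
  refine (congrArg (fun z : Γ(X', g' ⁻¹ᵁ (f ⁻¹ᵁ U)) => ((FlatBCD.bcC w).hom.app D).app U
    (z • (show Γ(D, g' ⁻¹ᵁ (f ⁻¹ᵁ U)) from π.app (f ⁻¹ᵁ U) (show Γ(M, f ⁻¹ᵁ U) from m)))) (beta_app w c)).trans ?_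
  refine (FlatBCD.bcC_app w D U _).trans ?_
  refine (QC.res_smul D _ _ _).trans ?_
  exact congrArg₂ (fun a b => a • b) ((QC.res_res (OO X') _ _ _).trans (QC.res_self (OO X') _ _))
    (FlatBCD.bcC_app w D U _).symm

end Groth.Agent.TorBC
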