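import Groth.Agent.TorBC.Act
import Groth.Agent.ProjForm.Hom
import Groth.Agent.KFlat.TorAmp
import Groth.Agent.RHomCx.AssocNat

/-!
The chain level identities behind base change.
-/

set_option autoImplicit false
set_option backward.isDefEq.respectTransparency false
set_option backward.isDefEq.respectTransparency.types false
set_option linter.style.haveILetI false
set_option linter.unusedSectionVars false

universe u

open CategoryTheory Limits AlgebraicGeometry HomologicalComplex

namespace Groth.Agent.TorBC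

open Groth.Agent.KFlat Groth.Agent.ProjForm

section Nat

variable {C₁ C₂ A₁ A₂ A A₁' A₂' A' : Type*} [Category* C₁] [Category* C₂] [Category* A₁] [Category* A₂]
  [Category* A] [Category* A₁'] [Category* A₂'] [Category* A'] [Abelian C₁] [Abelian C₂] [Abelian A₁]
  [Abelian A₂] [Abelian A] [Abelian A₁'] [Abelian A₂'] [Abelian A']
  (F₁ : C₁ ⥤ A₁') [F₁.Additive] (F₂ : C₂ ⥤ A₂') [F₂.Additive]
  (H₁ : C₁ ⥤ A₁) [H₁.Additive] (H₂ : C₂ ⥤ A₂) [H₂.Additive]
  (G : A ⥤ A') [G.Additive]
  (B : A₁ ⥤ A₂ ⥤ A) [B.Additive] [∀ X, (B.obj X).Additive]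
  (B' : A₁' ⥤ A₂' ⥤ A') [B'.Additive] [∀ X, (B'.obj X).Additive]
  [∀ (K : CochainComplex A₁ ℤ) (L : CochainComplex A₂ ℤ),
    HomologicalComplex.HasMapBifunctor K L B (ComplexShape.up ℤ)]
  [∀ (K : CochainComplex A₁' ℤ) (L : CochainComplex A₂' ℤ),
    HomologicalComplex.HasMapBifunctor K L B' (ComplexShape.up ℤ)]
  (e : ∀ M N, (B'.obj (F₁.obj M)).obj (F₂.obj N) ⟶ G.obj ((B.obj (H₁.obj M)).obj (H₂.obj N)))
  (he₁ : ∀ {M M' : C₁} (f : M ⟶ M') (N : C₂),
    (B'.map (F₁.map f)).app (F₂.obj N) ≫ e M' N =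
      e M N ≫ G.map ((B.map (H₁.map f)).app (H₂.obj N)))
  (he₂ : ∀ (M : C₁) {N N' : C₂} (g : N ⟶ N'),
    (B'.obj (F₁.obj M)).map (F₂.map g) ≫ e M N' =
      e M N ≫ G.map ((B.obj (H₁.obj M)).map (H₂.map g)))

/-- naturality in the first variable -/
lemma mapTensHom_natural₁ {L L' : CochainComplex C₁ ℤ} (a : L ⟶ L') (K : CochainComplex C₂ ℤ) :
    mapBifunctorMap ((F₁.mapHomologicalComplex (ComplexShape.up ℤ)).map a)
        (𝟙 ((F₂.mapHomologicalComplex (ComplexShape.up ℤ)).obj K)) B' (ComplexShape.up ℤ) ≫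
        mapTensHom F₁ F₂ H₁ H₂ G B B' e he₁ he₂ L' K =
      mapTensHom F₁ F₂ H₁ H₂ G B B' e he₁ he₂ L K ≫
        (G.mapHomologicalComplex (ComplexShape.up ℤ)).map (mapBifunctorMap
          ((H₁.mapHomologicalComplex (ComplexShape.up ℤ)).map a)
          (𝟙 ((H₂.mapHomologicalComplex (ComplexShape.up ℤ)).obj K)) B (ComplexShape.up ℤ)) := by
  refine HomologicalComplex.Hom.ext (funext fun n => mapBifunctor.hom_ext fun p q h => ?_)
  simp only [HomologicalComplex.comp_f]
  dsimp only [mapTensHom]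
  rw [ι_mapBifunctorMap_assoc]
  simp only [HomologicalComplex.id_f, CategoryTheory.Functor.map_id, Category.id_comp,
    Functor.mapHomologicalComplex_map_f]
  erw [ι_mapTensHomX F₁ F₂ H₁ H₂ G B B' e L' K n p q h,
    reassoc_of% (ι_mapTensHomX F₁ F₂ H₁ H₂ G B B' e L K n p q h)]
  have hu := congrArg G.map (HomologicalComplex.ι_mapBifunctorMap
    ((H₁.mapHomologicalComplex (ComplexShape.up ℤ)).map a)
    (𝟙 ((H₂.mapHomologicalComplex (ComplexShape.up ℤ)).obj K)) B (ComplexShape.up ℤ) p q n h)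
  simp only [HomologicalComplex.id_f, CategoryTheory.Functor.map_id, Category.id_comp,
    Functor.map_comp] at hu
  exact (Category.assoc _ _ _).symm.trans ((congrArg (· ≫ _) (he₁ (a.f p) (K.X q))).trans
    ((Category.assoc _ _ _).trans (congrArg (e _ _ ≫ ·) hu.symm)))

end Nat

variable {X Y : Scheme.{u}}

/-- the projection morphism is natural in the first variable -/
lemma theta_natural_left (f : X ⟶ Y) {L L' : CochainComplex X.Modules ℤ} (a : L ⟶ L')
    (P : CochainComplex Y.Modules ℤ) :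
    (DCoh.tensorCx.map ((pC f).map a)).app P ≫ (theta f L').app P =
      (theta f L).app P ≫ (pC f).map ((DCoh.tensorCx.map a).app ((qC f).obj P)) :=
  mapTensHom_natural₁ (Scheme.Modules.pushforward f) (𝟭 _) (𝟭 _) (Scheme.Modules.pullback f)
    (Scheme.Modules.pushforward f) (schB X) (schB Y) (fun M N => projHom f M N)
    (fun b N => projHom_natural_left f b N) (fun M _ _ b => projHom_natural_right f M b) a P

/-- a module in degree zero -/
noncomputable abbrev sg (N : X.Modules) : CochainComplex X.Modules ℤ :=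
  (HomologicalComplex.single X.Modules (ComplexShape.up ℤ) 0).obj N

/-- termwise tensor with a module -/
noncomputable abbrev TN (N : X.Modules) : CochainComplex X.Modules ℤ ⥤ CochainComplex X.Modules ℤ :=
  ((schB X).flip.obj N).mapHomologicalComplex (ComplexShape.up ℤ)

/-- `L ⊗ N[0]` -/
noncomputable def sR (L : CochainComplex X.Modules ℤ) (N : X.Modules) :
    (TN N).obj L ≅ (DCoh.tensorCx.obj L).obj (sg N) :=
  tensSingleIso (schB X) L N

/-- `N[0] ⊗ L` -/
noncomputable def sL (L : CochainComplex X.Modules ℤ) (N : X.Modules) :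
    (TN N).obj L ≅ (DCoh.tensorCx.obj (sg N)).obj L :=
  sR L N ≪≫ swapIso (braid X.sheaf) L (sg N)

lemma sR_f (L : CochainComplex X.Modules ℤ) (N : X.Modules) (n : ℤ) :
    (sR L N).hom.f n =
      ((schB X).obj (L.X n)).map (singleObjXSelf (ComplexShape.up ℤ) 0 N).inv ≫
        ιMapBifunctor L (sg N) (schB X) (ComplexShape.up ℤ) n 0 n (add_zero n) := rfl

lemma sL_f (L : CochainComplex X.Modules ℤ) (N : X.Modules) (n : ℤ) :
    (sL L N).hom.f n = brM (L.X n) N ≫
      ((schB X).map (singleObjXSelf (ComplexShape.up ℤ) 0 N).inv).app (L.X n) ≫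
        ιMapBifunctor (sg N) L (schB X) (ComplexShape.up ℤ) 0 n n (zero_add n) := by
  have hσ : (ComplexShape.up ℤ).σ (ComplexShape.up ℤ) (ComplexShape.up ℤ) 0 n = 1 :=
    (show (0 * n).negOnePow = 1 by rw [zero_mul, Int.negOnePow_zero])
  change (sR L N).hom.f n ≫ (swapIso (braid X.sheaf) L (sg N)).hom.f n = _
  have h : ιMapBifunctor L (sg N) (schB X) (ComplexShape.up ℤ) n 0 n (add_zero n) ≫
      (swapIso (braid X.sheaf) L (sg N)).hom.f n = brM (L.X n) ((sg N).X 0) ≫
        ιMapBifunctor (sg N) L (schB X) (ComplexShape.up ℤ) 0 n n (zero_add n) := by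
    refine (RHomCx.ι_swapIso (braid X.sheaf) L (sg N) n 0 n (add_zero n)).trans ?_
    rw [hσ, one_smul]
    rfl
  rw [sR_f, Category.assoc, h, ← Category.assoc, ← Category.assoc]
  refine congrArg (· ≫ _) ?_
  exact ((braid X.sheaf).hom.app (L.X n)).naturality (singleObjXSelf (ComplexShape.up ℤ) 0 N).inv

lemma sR_natural {L L' : CochainComplex X.Modules ℤ} (a : L ⟶ L') (N : X.Modules) :
    (TN N).map a ≫ (sR L' N).hom = (sR L N).hom ≫ (DCoh.tensorCx.map a).app (sg N) := by
  refine HomologicalComplex.hom_ext _ _ fun n => ?_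
  rw [HomologicalComplex.comp_f, HomologicalComplex.comp_f, sR_f, sR_f, Category.assoc]
  have h : ιMapBifunctor L (sg N) (schB X) (ComplexShape.up ℤ) n 0 n (add_zero n) ≫
      ((DCoh.tensorCx.map a).app (sg N)).f n =
      ((schB X).map (a.f n)).app ((sg N).X 0) ≫ ιMapBifunctor L' (sg N) (schB X) (ComplexShape.up ℤ) n 0 n (add_zero n) := by
    refine (ι_mapBifunctorMap a (𝟙 (sg N)) (schB X) (ComplexShape.up ℤ) n 0 n (add_zero n)).trans ?_
    simp
  rw [h, ← Category.assoc, ← Category.assoc]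
  exact congrArg (· ≫ _) (((schB X).map (a.f n)).naturality (singleObjXSelf (ComplexShape.up ℤ) 0 N).inv).symm

/-- `L ⊗ O = L` -/
noncomputable def unitTN (L : CochainComplex X.Modules ℤ) : (TN (OO X)).obj L ⟶ L where
  f n := unitR (L.X n)
  comm' i j _ := (unitR_natural (L.d i j)).symm

/-- `O ⊗ L = L` -/
noncomputable def unitC (L : CochainComplex X.Modules ℤ) : (DCoh.tensorCx.obj (sg (OO X))).obj L ⟶ L :=
  (sL L (OO X)).inv ≫ unitTN L

instance isIso_unitC (L : CochainComplex X.Modules ℤ) : IsIso (unitC L) := by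
  haveI : ∀ n, IsIso (unitR (L.X n)) := fun n => by
    haveI := isIso_rho (L.X n)
    exact inferInstanceAs (IsIso (inv (rho (L.X n))))
  haveI : ∀ n, IsIso ((unitTN L).f n) := fun n => ‹∀ n, IsIso (unitR (L.X n))› n
  haveI : IsIso (unitTN L) := HomologicalComplex.Hom.isIso_of_components _
  exact inferInstanceAs (IsIso ((sL L (OO X)).inv ≫ _))

variable (g : Y ⟶ X)

/-- `(g_*N)[0] = g_*(N[0])` -/
noncomputable def sgPush (N : Y.Modules) :
    sg ((Scheme.Modules.pushforward g).obj N) ≅ (pC g).obj (sg N) :=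
  ((singleMapHomologicalComplex (Scheme.Modules.pushforward g) (ComplexShape.up ℤ) 0).app N).symm

/-- `M ⊗ g_*O ⟶ g_* g^* M` -/
noncomputable def unitAct :
    (schB X).flip.obj ((Scheme.Modules.pushforward g).obj (OO Y)) ⟶
      Scheme.Modules.pullback g ⋙ Scheme.Modules.pushforward g where
  app M := ((schB X).map ((Scheme.Modules.pullbackPushforwardAdjunction g).unit.app M)).app _ ≫
    act g ((Scheme.Modules.pullback g).obj M)
  naturality M N a := by
    dsimp only [Functor.comp_map, Functor.comp_obj, Functor.flip_obj_map]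
    rw [Category.assoc, ← act_natural g ((Scheme.Modules.pullback g).map a), ← Category.assoc, ← Category.assoc,
      ← NatTrans.comp_app, ← NatTrans.comp_app, ← Functor.map_comp, ← Functor.map_comp]
    exact congrArg (fun t => ((schB X).map t).app _ ≫ _)
      ((Scheme.Modules.pullbackPushforwardAdjunction g).unit.naturality a)

/-- `L ⊗ g_*O ⟶ g_* g^* L` on complexes -/
noncomputable def unitActC (L : CochainComplex X.Modules ℤ) :
    (TN ((Scheme.Modules.pushforward g).obj (OO Y))).obj L ⟶ (pC g).obj ((qC g).obj L) :=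
  Hom.mk (fun n => (unitAct g).app (L.X n)) fun i j _ => ((unitAct g).naturality (L.d i j)).symm

/-- the comparison of `unitActC` with the projection morphism -/
theorem theta_unitC (L : CochainComplex X.Modules ℤ) :
    (sL L ((Scheme.Modules.pushforward g).obj (OO Y))).hom ≫
        (DCoh.tensorCx.map (sgPush g (OO Y)).hom).app L ≫ (theta g (sg (OO Y))).app L ≫
        (pC g).map (unitC ((qC g).obj L)) = unitActC g L := by
  refine HomologicalComplex.hom_ext _ _ fun n => ?_
  simp only [HomologicalComplex.comp_f]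
  rw [sL_f]
  simp only [Category.assoc]
  have h1 : ιMapBifunctor (sg ((Scheme.Modules.pushforward g).obj (OO Y))) L (schB X) (ComplexShape.up ℤ) 0 n n
      (zero_add n) ≫ ((DCoh.tensorCx.map (sgPush g (OO Y)).hom).app L).f n =
      ((schB X).map ((sgPush g (OO Y)).hom.f 0)).app (L.X n) ≫
        ιMapBifunctor ((pC g).obj (sg (OO Y))) L (schB X) (ComplexShape.up ℤ) 0 n n (zero_add n) := by
    refine (ι_mapBifunctorMap (sgPush g (OO Y)).hom (𝟙 L) (schB X) (ComplexShape.up ℤ) 0 n n (zero_add n)).trans ?_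
    simp
  have h2 := ι_mapTensHomX (Scheme.Modules.pushforward g) (𝟭 _) (𝟭 _) (Scheme.Modules.pullback g)
    (Scheme.Modules.pushforward g) (schB Y) (schB X) (fun M N => projHom g M N) (sg (OO Y)) L n 0 n (zero_add n)
  have h3 : ((schB X).map (singleObjXSelf (ComplexShape.up ℤ) 0 ((Scheme.Modules.pushforward g).obj (OO Y))).inv).app
        (L.X n) ≫ ((schB X).map ((sgPush g (OO Y)).hom.f 0)).app (L.X n) =
      ((schB X).map ((Scheme.Modules.pushforward g).map
        (singleObjXSelf (ComplexShape.up ℤ) 0 (OO Y)).inv)).app (L.X n) := by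
    rw [← NatTrans.comp_app, ← Functor.map_comp]
    refine congrArg (fun t => ((schB X).map t).app (L.X n)) ?_
    simp [sgPush]
  have h4 : ((schB Y).map (singleObjXSelf (ComplexShape.up ℤ) 0 (OO Y)).inv).app ((Scheme.Modules.pullback g).obj (L.X n)) ≫
      ιMapBifunctor (sg (OO Y)) ((qC g).obj L) (schB Y) (ComplexShape.up ℤ) 0 n n (zero_add n) ≫
        (unitC ((qC g).obj L)).f n = unitL _ := by
    have hs : brM _ _ ≫ brM (OO Y) ((Scheme.Modules.pullback g).obj (L.X n)) =
        𝟙 (((schB Y).obj ((Scheme.Modules.pullback g).obj (L.X n))).obj (OO Y)) :=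
      tens_ext fun U a b => by
        rw [Scheme.Modules.Hom.comp_app, ConcreteCategory.comp_apply, tm_braid, tm_braid]
        rfl
    haveI : Epi (brM ((Scheme.Modules.pullback g).obj (L.X n)) (OO Y)) :=
      inferInstanceAs (Epi (((braid Y.sheaf).hom.app _).app _))
    refine (cancel_epi (brM ((Scheme.Modules.pullback g).obj (L.X n)) (OO Y))).1 ?_
    refine Eq.trans ?_ ((congrArg (· ≫ unitR _) hs).symm.trans (Category.assoc _ _ _))
    have h := sL_f ((qC g).obj L) (OO Y) n
    have h' : brM _ _ ≫ ((schB Y).map (singleObjXSelf (ComplexShape.up ℤ) 0 (OO Y)).inv).app _ ≫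
        ιMapBifunctor (sg (OO Y)) ((qC g).obj L) (schB Y) (ComplexShape.up ℤ) 0 n n (zero_add n) ≫
          (sL ((qC g).obj L) (OO Y)).inv.f n = 𝟙 _ := by
      rw [← Category.assoc, ← Category.assoc]
      refine (congrArg (· ≫ _) ((Category.assoc _ _ _).trans h.symm)).trans ?_
      rw [← HomologicalComplex.comp_f, Iso.hom_inv_id]
      rfl
    refine Eq.trans ?_ ((congrArg (· ≫ unitR _) h').trans (Category.id_comp _) |>.trans (Category.id_comp _).symm)
    simp only [unitC, HomologicalComplex.comp_f, Category.assoc]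
    rfl
  refine Eq.trans ?_ (braid_projHom_eq_act g (L.X n))
  refine congrArg (brM _ _ ≫ ·) ?_
  rw [reassoc_of% h1, reassoc_of% h3]
  refine (congrArg (_ ≫ ·) ((Category.assoc _ _ _).symm.trans ((congrArg (· ≫ _) h2).trans
    (Category.assoc _ _ _)))).trans ?_
  rw [← Category.assoc]
  refine (congrArg (· ≫ _) (projHom_natural_left g (singleObjXSelf (ComplexShape.up ℤ) 0 (OO Y)).inv (L.X n))).trans ?_
  rw [Category.assoc, Functor.mapHomologicalComplex_map_f]
  refine congrArg (projHom g (OO Y) (L.X n) ≫ ·) ?_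
  refine ((congrArg (_ ≫ ·) ((Scheme.Modules.pushforward g).map_comp _ _).symm).trans
    ((Scheme.Modules.pushforward g).map_comp _ _).symm).trans ?_
  exact congrArg (Scheme.Modules.pushforward g).map h4

/-- `F ⊗ g_*O ⟶ g_*D` from `u : F ⟶ g_* D` -/
noncomputable def psi {F : CochainComplex X.Modules ℤ} {D : CochainComplex Y.Modules ℤ} (u : F ⟶ (pC g).obj D) :
    (TN ((Scheme.Modules.pushforward g).obj (OO Y))).obj F ⟶ (pC g).obj D :=
  Hom.mk (fun n => ((schB X).map (u.f n)).app _ ≫ act g (D.X n)) fun i j _ => by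
    show (((schB X).map (u.f i)).app _ ≫ act g (D.X i)) ≫ (Scheme.Modules.pushforward g).map (D.d i j) =
      ((schB X).map (F.d i j)).app _ ≫ ((schB X).map (u.f j)).app _ ≫ act g (D.X j)
    rw [Category.assoc, ← act_natural g (D.d i j), ← Category.assoc, ← Category.assoc, ← NatTrans.comp_app,
      ← NatTrans.comp_app, ← Functor.map_comp, ← Functor.map_comp]
    exact congrArg (fun t => ((schB X).map t).app _ ≫ _) (u.comm i j)

lemma psi_comp {F F' : CochainComplex X.Modules ℤ} {D : CochainComplex Y.Modules ℤ} (a : F ⟶ F')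
    (u : F' ⟶ (pC g).obj D) : psi g (a ≫ u) = (TN _).map a ≫ psi g u :=
  HomologicalComplex.hom_ext _ _ fun n => by
    simp only [psi, HomologicalComplex.comp_f, Functor.mapHomologicalComplex_map_f, Functor.flip_obj_map,
      Functor.map_comp, NatTrans.comp_app, Category.assoc]

/-- `psi` of a transpose -/
theorem psi_eq_unitActC {F : CochainComplex X.Modules ℤ} {D : CochainComplex Y.Modules ℤ}
    (v : (qC g).obj F ⟶ D) (u : F ⟶ (pC g).obj D)
    (hu : ∀ n, u.f n = (Scheme.Modules.pullbackPushforwardAdjunction g).unit.app (F.X n) ≫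
      (Scheme.Modules.pushforward g).map (v.f n)) :
    psi g u = unitActC g F ≫ (pC g).map v := by
  refine HomologicalComplex.hom_ext _ _ fun n => ?_
  simp only [psi, unitActC, unitAct, HomologicalComplex.comp_f, Functor.mapHomologicalComplex_map_f]
  refine Eq.trans ?_ (Category.assoc _ _ _).symm
  refine Eq.trans ?_ (congrArg (_ ≫ ·) (act_natural g (v.f n)))
  refine Eq.trans ?_ (Category.assoc _ _ _)
  refine congrArg (· ≫ _) ?_
  rw [← NatTrans.comp_app, ← Functor.map_comp, ← hu n]

variable {X' S S' : Scheme.{u}} {g' : X' ⟶ X} {f : X ⟶ S} {g₀ : S' ⟶ S} {f' : X' ⟶ S'}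

/-- `f_* g'_* = g_* f'_*` on complexes -/
noncomputable def bcX (w : g' ≫ f = f' ≫ g₀) (D : CochainComplex X'.Modules ℤ) :
    (pC f).obj ((pC g').obj D) ⟶ (pC g₀).obj ((pC f').obj D) :=
  (NatTrans.mapHomologicalComplex (FlatBCD.bcC w).hom (ComplexShape.up ℤ)).app D

/-- `f^*((g_*O)[0]) ⟶ (g'_*O)[0]` -/
noncomputable def betaC (w : g' ≫ f = f' ≫ g₀) :
    (qC f).obj (sg ((Scheme.Modules.pushforward g₀).obj (OO S'))) ⟶ sg ((Scheme.Modules.pushforward g').obj (OO X')) :=
  (singleMapHomologicalComplex (Scheme.Modules.pullback f) (ComplexShape.up ℤ) 0).hom.app _ ≫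
    (HomologicalComplex.single X.Modules (ComplexShape.up ℤ) 0).map (beta w)

/-- the two routes from `f_* N ⊗ g_* O` to `g_* f'_* D` -/
theorem theta_psi (w : g' ≫ f = f' ≫ g₀) {N : CochainComplex X.Modules ℤ} {D : CochainComplex X'.Modules ℤ}
    (π : N ⟶ (pC g').obj D) :
    (sR ((pC f).obj N) ((Scheme.Modules.pushforward g₀).obj (OO S'))).hom ≫ (theta f N).app (sg _) ≫
        (pC f).map ((DCoh.tensorCx.obj N).map (betaC w) ≫ (sR N _).inv ≫ psi g' π) ≫ bcX w D =
      psi g₀ ((pC f).map π ≫ bcX w D) := by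
  refine HomologicalComplex.hom_ext _ _ fun n => ?_
  simp only [HomologicalComplex.comp_f]
  rw [sR_f]
  simp only [Category.assoc]
  let GO := (Scheme.Modules.pushforward g₀).obj (OO S')
  let GO' := (Scheme.Modules.pushforward g').obj (OO X')
  have h2 := ι_mapTensHomX (Scheme.Modules.pushforward f) (𝟭 _) (𝟭 _) (Scheme.Modules.pullback f)
    (Scheme.Modules.pushforward f) (schB X) (schB S) (fun M N => projHom f M N) N (sg GO) n n 0 (add_zero n)
  have h4 : ((schB X).obj (N.X n)).map ((Scheme.Modules.pullback f).map (singleObjXSelf (ComplexShape.up ℤ) 0 GO).inv) ≫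
      ιMapBifunctor N ((qC f).obj (sg GO)) (schB X) (ComplexShape.up ℤ) n 0 n (add_zero n) ≫
        ((DCoh.tensorCx.obj N).map (betaC w) ≫ (sR N GO').inv ≫ psi g' π).f n =
      ((schB X).obj (N.X n)).map (beta w) ≫ ((schB X).map (π.f n)).app GO' ≫ act g' (D.X n) := by
    have h5 : ιMapBifunctor N ((qC f).obj (sg GO)) (schB X) (ComplexShape.up ℤ) n 0 n (add_zero n) ≫
        ((DCoh.tensorCx.obj N).map (betaC w)).f n =
        ((schB X).obj (N.X n)).map ((betaC w).f 0) ≫
          ιMapBifunctor N (sg GO') (schB X) (ComplexShape.up ℤ) n 0 n (add_zero n) := by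
      refine (ι_mapBifunctorMap (𝟙 N) (betaC w) (schB X) (ComplexShape.up ℤ) n 0 n (add_zero n)).trans ?_
      simp only [HomologicalComplex.id_f, CategoryTheory.Functor.map_id, NatTrans.id_app, Category.id_comp]
      rfl
    have h6 : (Scheme.Modules.pullback f).map (singleObjXSelf (ComplexShape.up ℤ) 0 GO).inv ≫ (betaC w).f 0 =
        beta w ≫ (singleObjXSelf (ComplexShape.up ℤ) 0 GO').inv := by
      simp [betaC, GO, GO', HomologicalComplex.single, singleObjXSelf, singleObjXIsoOfEq]
      exact Category.id_comp _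
    simp only [HomologicalComplex.comp_f]
    rw [reassoc_of% h5, ← Category.assoc, ← Functor.map_comp, h6, Functor.map_comp, Category.assoc]
    refine congrArg (_ ≫ ·) ?_
    rw [← Category.assoc, ← Category.assoc]
    refine (congrArg (fun t => (t ≫ _) ≫ _) (sR_f N GO' n).symm).trans ?_
    rw [← HomologicalComplex.comp_f, Iso.hom_inv_id]
    exact Category.id_comp _
  refine (congrArg (_ ≫ ·) ((Category.assoc _ _ _).symm.trans ((congrArg (· ≫ _) h2).trans
    (Category.assoc _ _ _)))).trans ?_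
  rw [← Category.assoc]
  refine (congrArg (· ≫ _) (projHom_natural_right f (N.X n) (singleObjXSelf (ComplexShape.up ℤ) 0 GO).inv)).trans ?_
  refine (Category.assoc _ _ _).trans ?_
  refine Eq.trans ?_ (projHom_act w (π.f n))
  refine congrArg (projHom f (N.X n) GO ≫ ·) ?_
  rw [Functor.mapHomologicalComplex_map_f, ← Category.assoc, ← Category.assoc]
  refine congrArg (· ≫ _) ?_
  refine (congrArg (· ≫ _) (Functor.map_comp _ _ _).symm).trans ?_
  refine (Functor.map_comp _ _ _).symm.trans (congrArg _ ?_)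
  exact (Category.assoc _ _ _).trans h4

end Groth.Agent.TorBC
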