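import Groth.Agent.TorBC.UnitAct
import Groth.Agent.TMul.Assoc
import Groth.Agent.ProjForm.Main
import Groth.Agent.TorBC.Chain

/-!
`(M ⊗ G) ⊗ g_*O = M ⊗ g_* g^* G`.
-/

set_option autoImplicit false
set_option backward.isDefEq.respectTransparency false
set_option backward.isDefEq.respectTransparency.types false
set_option linter.style.haveILetI false
set_option linter.unusedSectionVars false

universe u

open CategoryTheory Limits AlgebraicGeometry HomologicalComplex MonoidalCategory
open scoped TensorProduct

attribute [local instance] HasDerivedCategory.standard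

namespace Groth.Agent.TorBC

open Groth.Agent.KFlat Groth.Agent.ProjForm

variable {X : Scheme.{u}}

section Key

variable {Y : Scheme.{u}} (g : Y ⟶ X) (G : X.Modules)

/-- `g_* g^* G` -/
noncomputable abbrev GG : X.Modules := (Scheme.Modules.pushforward g).obj ((Scheme.Modules.pullback g).obj G)

/-- `G ⊗ g_*O ⟶ g_* g^* G` -/
noncomputable abbrev uG : ((schB X).obj G).obj ((Scheme.Modules.pushforward g).obj (OO Y)) ⟶ GG g G :=
  ((schB X).map ((Scheme.Modules.pullbackPushforwardAdjunction g).unit.app G)).app _ ≫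
    act g ((Scheme.Modules.pullback g).obj G)

/-- the associativity morphism -/
noncomputable def asM (A B C : X.Modules) :
    ((schB X).obj (((schB X).obj A).obj B)).obj C ⟶ ((schB X).obj A).obj (((schB X).obj B).obj C) :=
  TMul.assocHom A B C

lemma isIso_asM (A B C : X.Modules) : IsIso (asM A B C) :=
  (TMul.assocIso A B C).isIso_hom

lemma asM_app {A B C : X.Modules} {U : X.Opens} (a : Γ(A, U)) (b : Γ(B, U)) (c : Γ(C, U)) :
    (asM A B C).app U (tm (tm a b) c) = tm a (tm b c) :=
  TMul.assocHom_tm a b c

lemma asM_natural₁ {M N : X.Modules} (a : M ⟶ N) (C : X.Modules) :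
    ((schB X).map (((schB X).map a).app G)).app C ≫ asM N G C =
      asM M G C ≫ ((schB X).map a).app (((schB X).obj G).obj C) := by
  refine tens_ext₃ fun U m x c => ?_
  rw [Scheme.Modules.Hom.comp_app, Scheme.Modules.Hom.comp_app, ConcreteCategory.comp_apply,
    ConcreteCategory.comp_apply]
  rw [tm_map_left, tm_map_left, asM_app, asM_app, tm_map_left]

/-- `(M ⊗ G) ⊗ g_*O ⟶ M ⊗ g_* g^* G` -/
noncomputable def kappaM (M : X.Modules) :
    ((schB X).obj (((schB X).obj M).obj G)).obj ((Scheme.Modules.pushforward g).obj (OO Y)) ⟶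
      ((schB X).obj M).obj (GG g G) :=
  asM M G ((Scheme.Modules.pushforward g).obj (OO Y)) ≫ ((schB X).obj M).map (uG g G)

/-- `kappaM`, naturally -/
noncomputable def kappa :
    (schB X).flip.obj G ⋙ (schB X).flip.obj ((Scheme.Modules.pushforward g).obj (OO Y)) ⟶
      (schB X).flip.obj (GG g G) where
  app M := kappaM g G M
  naturality M N a := by
    dsimp only [kappaM, Functor.comp_map, Functor.flip_obj_map, Functor.comp_obj]
    rw [← Category.assoc, asM_natural₁ G a, Category.assoc, Category.assoc]
    exact congrArg (_ ≫ ·) (((schB X).map a).naturality (uG g G)).symm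

lemma isIso_kappa [IsAffineHom g] (hG : Coh.IsQCoh G) : IsIso (kappa g G) := by
  haveI : IsIso (uG g G) := isIso_unitAct g hG
  haveI : ∀ M, IsIso ((kappa g G).app M) := fun M => by
    haveI := isIso_asM M G ((Scheme.Modules.pushforward g).obj (OO Y))
    change IsIso (kappaM g G M)
    unfold kappaM
    infer_instance
  exact NatIso.isIso_of_isIso_app _

/-- the unit action on `M ⊗ G` through the projection morphism -/
theorem kappa_projHom (M : X.Modules) :
    kappaM g G M ≫ brM M (GG g G) ≫
      projHom g ((Scheme.Modules.pullback g).obj G) M ≫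
        (Scheme.Modules.pushforward g).map
          (brM ((Scheme.Modules.pullback g).obj G) ((Scheme.Modules.pullback g).obj M) ≫
            (pullTensorIso g M G).hom) =
      ((schB X).map ((Scheme.Modules.pullbackPushforwardAdjunction g).unit.app (((schB X).obj M).obj G))).app
          ((Scheme.Modules.pushforward g).obj (OO Y)) ≫
        act g ((Scheme.Modules.pullback g).obj (((schB X).obj M).obj G)) := by
  refine tens_ext₃ fun U m x c => ?_
  let G' := (Scheme.Modules.pullback g).obj G
  let M' := (Scheme.Modules.pullback g).obj M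
  let hm : Γ(M', g ⁻¹ᵁ U) := pullSec g M U m
  let hx : Γ(G', g ⁻¹ᵁ U) := pullSec g G U x
  let c' : Γ(Y, g ⁻¹ᵁ U) := c
  simp only [Scheme.Modules.Hom.comp_app, ConcreteCategory.comp_apply]
  refine Eq.trans ?_ ((congrArg ((act g _).app U) (tm_map_left
    ((Scheme.Modules.pullbackPushforwardAdjunction g).unit.app (((schB X).obj M).obj G)) (tm m x) c)).trans
    (act_app g _ _ _)).symm
  let F : Γ(((schB X).obj M).obj (GG g G), U) → Γ((Scheme.Modules.pullback g).obj (((schB X).obj M).obj G), g ⁻¹ᵁ U) :=
    fun z => (pullTensorIso g M G).hom.app (g ⁻¹ᵁ U) ((brM G' M').app (g ⁻¹ᵁ U)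
      ((projHom g G' M).app U ((brM M (GG g G)).app U z)))
  have hk : (kappaM g G M).app U (tm (tm m x) c) =
      tm m (show Γ(GG g G, U) from c' • hx) := by
    refine (congrArg ((((schB X).obj M).map (uG g G)).app U) (asM_app m x c)).trans ?_
    refine (tm_map_right (uG g G) m _).trans (congrArg (tm m) ?_)
    refine (congrArg ((act g G').app U) (tm_map_left _ x c)).trans ?_
    exact act_app g G' _ _
  refine (congrArg F hk).trans ?_
  dsimp only [F]
  refine (congrArg (fun z => (pullTensorIso g M G).hom.app (g ⁻¹ᵁ U) ((brM G' M').app (g ⁻¹ᵁ U)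
    ((projHom g G' M).app U z))) (tm_braid m (show Γ(GG g G, U) from c' • hx))).trans ?_
  refine (congrArg (fun z => (pullTensorIso g M G).hom.app (g ⁻¹ᵁ U) ((brM G' M').app (g ⁻¹ᵁ U) z))
    (projHom_app g G' M U (c' • hx) m)).trans ?_
  refine (congrArg ((pullTensorIso g M G).hom.app (g ⁻¹ᵁ U)) (tm_braid (c' • hx) hm)).trans ?_
  refine (congrArg ((pullTensorIso g M G).hom.app (g ⁻¹ᵁ U)) (TMul.tm_smul c' hm hx)).trans ?_
  refine (Scheme.Modules.Hom.app_smul _ c' _).trans (congrArg (c' • ·) ?_)
  refine ((congrArg ((pullTensorIso g M G).hom.app (g ⁻¹ᵁ U)) (pullTensorHom_spec g M G U m x).symm)).trans ?_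
  exact congrArg (fun t => (Scheme.Modules.Hom.app t (g ⁻¹ᵁ U)).hom
    (pullSec g (((schB X).obj M).obj G) U (tm m x))) (IsIso.hom_inv_id (pullTensorHom g M G))

end Key

end Groth.Agent.TorBC
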