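import Groth.Agent.TorBC.FlatExact
import Groth.Agent.TorBC.Kappa
import Groth.Agent.DQPush.Affine

/-!
The local hypothesis of base change for `E ⊗ G` with `G` flat over the base.
-/

set_option autoImplicit false
set_option backward.isDefEq.respectTransparency false
set_option backward.isDefEq.respectTransparency.types false
set_option linter.style.haveILetI false
set_option linter.unusedSectionVars false

universe u

open CategoryTheory Limits AlgebraicGeometry HomologicalComplex MonoidalCategory
open scoped TensorProduct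

attribute [local instance] HasDerivedCategory.standard

namespace Groth.Agent.TorBC

open Groth.Agent.KFlat Groth.Agent.ProjForm

variable {X S : Scheme.{u}} (f : X ⟶ S)

/-- single complexes and direct images -/
lemma theta_single_left (g : X ⟶ S) (L : CochainComplex S.Modules ℤ) (D : X.Modules) (n : ℤ) :
    ((sL L ((Scheme.Modules.pushforward g).obj D)).hom ≫ (DCoh.tensorCx.map (sgPush g D).hom).app L ≫
        (theta g (sg D)).app L ≫ (pC g).map (sL ((qC g).obj L) D).inv).f n =
      brM (L.X n) ((Scheme.Modules.pushforward g).obj D) ≫ projHom g D (L.X n) ≫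
        (Scheme.Modules.pushforward g).map (brM D ((Scheme.Modules.pullback g).obj (L.X n))) := by
  simp only [HomologicalComplex.comp_f]
  rw [sL_f]
  simp only [Category.assoc]
  have h1 : ιMapBifunctor (sg ((Scheme.Modules.pushforward g).obj D)) L (schB S) (ComplexShape.up ℤ) 0 n n
      (zero_add n) ≫ ((DCoh.tensorCx.map (sgPush g D).hom).app L).f n =
      ((schB S).map ((sgPush g D).hom.f 0)).app (L.X n) ≫
        ιMapBifunctor ((pC g).obj (sg D)) L (schB S) (ComplexShape.up ℤ) 0 n n (zero_add n) := by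
    refine (ι_mapBifunctorMap (sgPush g D).hom (𝟙 L) (schB S) (ComplexShape.up ℤ) 0 n n (zero_add n)).trans ?_
    simp
  have h2 := ι_mapTensHomX (Scheme.Modules.pushforward g) (𝟭 _) (𝟭 _) (Scheme.Modules.pullback g)
    (Scheme.Modules.pushforward g) (schB X) (schB S) (fun M N => projHom g M N) (sg D) L n 0 n (zero_add n)
  have h3 : ((schB S).map (singleObjXSelf (ComplexShape.up ℤ) 0 ((Scheme.Modules.pushforward g).obj D)).inv).app
        (L.X n) ≫ ((schB S).map ((sgPush g D).hom.f 0)).app (L.X n) =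
      ((schB S).map ((Scheme.Modules.pushforward g).map
        (singleObjXSelf (ComplexShape.up ℤ) 0 D).inv)).app (L.X n) := by
    rw [← NatTrans.comp_app, ← Functor.map_comp]
    refine congrArg (fun t => ((schB S).map t).app (L.X n)) ?_
    simp [sgPush]
  let M' := (Scheme.Modules.pullback g).obj (L.X n)
  have hs : ∀ A B : X.Modules, brM A B ≫ brM B A = 𝟙 (((schB X).obj A).obj B) := fun A B =>
    tens_ext fun U a b => by
      rw [Scheme.Modules.Hom.comp_app, ConcreteCategory.comp_apply, tm_braid, tm_braid]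
      rfl
  have h4 : ((schB X).map (singleObjXSelf (ComplexShape.up ℤ) 0 D).inv).app M' ≫
      ιMapBifunctor (sg D) ((qC g).obj L) (schB X) (ComplexShape.up ℤ) 0 n n (zero_add n) ≫
        (sL ((qC g).obj L) D).inv.f n = brM D M' := by
    haveI : IsIso (brM M' D) := ⟨brM D M', hs _ _, hs _ _⟩
    refine (cancel_epi (brM M' D)).1 ?_
    refine Eq.trans ?_ (hs M' D).symm
    rw [← Category.assoc, ← Category.assoc]
    refine (congrArg (· ≫ _) ((Category.assoc _ _ _).trans (sL_f ((qC g).obj L) D n).symm)).trans ?_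
    rw [← HomologicalComplex.comp_f, Iso.hom_inv_id]
    rfl
  refine congrArg (brM _ _ ≫ ·) ?_
  rw [reassoc_of% h1, reassoc_of% h3]
  refine (congrArg (_ ≫ ·) ((Category.assoc _ _ _).symm.trans ((congrArg (· ≫ _) h2).trans
    (Category.assoc _ _ _)))).trans ?_
  rw [← Category.assoc]
  refine (congrArg (· ≫ _) (projHom_natural_left g (singleObjXSelf (ComplexShape.up ℤ) 0 D).inv (L.X n))).trans ?_
  rw [Category.assoc, Functor.mapHomologicalComplex_map_f]
  refine congrArg (projHom g D (L.X n) ≫ ·) ?_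
  refine ((congrArg (_ ≫ ·) ((Scheme.Modules.pushforward g).map_comp _ _).symm).trans
    ((Scheme.Modules.pushforward g).map_comp _ _).symm).trans ?_
  exact congrArg (Scheme.Modules.pushforward g).map h4

section Key

variable {Y : Scheme.{u}} (g : Y ⟶ X) (G : X.Modules)

/-- `g^*(L ⊗ G) = g^*L ⊗ g^*G` termwise -/
noncomputable def ptC (L : CochainComplex X.Modules ℤ) :
    (TN ((Scheme.Modules.pullback g).obj G)).obj ((qC g).obj L) ≅ (qC g).obj ((TN G).obj L) :=
  Hom.isoOfComponents (fun n => pullTensorIso g (L.X n) G)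
    fun i j _ => (pullTensorIso_natural_left g (L.d i j) G).symm

/-- a K-injective resolution of `g^*(P ⊗ G)` computing the action -/
theorem exists_res_kappa [IsAffineHom g] (hG : Coh.IsQCoh G) {P : CochainComplex X.Modules ℤ}
    (hP : DCoh.IsKFlat P) (hPq : ∀ i, Coh.IsQCoh (P.homology i)) :
    ∃ (J : CochainComplex Y.Modules ℤ) (t : (qC g).obj ((TN G).obj P) ⟶ J), J.IsKInjective ∧ QuasiIso t ∧
      QuasiIso (unitActC g ((TN G).obj P) ≫ (pC g).map t) := by
  haveI := DerPush.hasRpush_sch g
  let D := (Scheme.Modules.pullback g).obj G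
  have hD : Coh.IsQCoh D := QC.isQCoh_pullback g hG
  obtain ⟨ID, ι, hID, hι⟩ := DerPush.exists_kInj_sch (sg D)
  haveI : QuasiIso ((pC g).map ι) := quasiIso_push_sg g hD ι
  haveI := quasiIso_map_app_sch P hP ((pC g).map ι)
  haveI := quasiIso_map_app_sch ((qC g).obj P) (isKFlat_pullback g hP) ι
  obtain ⟨J, s, hJ, hs⟩ := DerPush.exists_kInj_sch ((rhsF g ID).obj P)
  let t := (ptC g G P).inv ≫ (sL ((qC g).obj P) D).hom ≫ (DCoh.tensorCx.map ι).app ((qC g).obj P) ≫ s
  haveI : QuasiIso ((theta g ID).app P ≫ (pC g).map s) := quasiIso_of_qisOn _ fun y => by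
    obtain ⟨V, hV, hy⟩ := QC.exists_affine_mem y
    exact ⟨V, hy, (good_iff s).1 (good_of_affine g ID hV
      (isQCoh_homology_of_qis ι (isQCoh_homology_sg hD)) hP hPq)⟩
  refine ⟨J, t, hJ, inferInstance, ?_⟩
  haveI := isIso_kappa g G hG
  let K : (TN ((Scheme.Modules.pushforward g).obj (OO Y))).obj ((TN G).obj P) ⟶ (TN (GG g G)).obj P :=
    { f := fun n => kappaM g G (P.X n)
      comm' := fun i j _ => ((kappa g G).naturality (P.d i j)).symm }
  haveI : ∀ n, IsIso (K.f n) := fun n => inferInstanceAs (IsIso ((kappa g G).app (P.X n)))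
  haveI : IsIso K := HomologicalComplex.Hom.isIso_of_components _
  have e₁ : unitActC g ((TN G).obj P) = K ≫ ((sL P (GG g G)).hom ≫ (DCoh.tensorCx.map (sgPush g D).hom).app P ≫
      (theta g (sg D)).app P ≫ (pC g).map (sL ((qC g).obj P) D).inv) ≫ (pC g).map (ptC g G P).hom := by
    refine HomologicalComplex.hom_ext _ _ fun n => ?_
    rw [HomologicalComplex.comp_f, HomologicalComplex.comp_f]
    refine Eq.trans ?_ (congrArg (fun t => kappaM g G (P.X n) ≫ t ≫ _) (theta_single_left g P D n)).symm
    refine (kappa_projHom g G (P.X n)).symm.trans ?_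
    simp only [Category.assoc]
    rfl
  have e : unitActC g ((TN G).obj P) ≫ (pC g).map t = K ≫ (sL P (GG g G)).hom ≫
      (DCoh.tensorCx.map (sgPush g D).hom).app P ≫ (DCoh.tensorCx.map ((pC g).map ι)).app P ≫
        (theta g ID).app P ≫ (pC g).map s := by
    rw [e₁, reassoc_of% (theta_natural_left g ι P)]
    simp only [Category.assoc, ← Functor.map_comp, t, Iso.hom_inv_id_assoc, Iso.inv_hom_id_assoc]
  rw [e]
  infer_instance

end Key

variable {S' X' : Scheme.{u}} {f} {g₀ : S' ⟶ S} {g' : X' ⟶ X} {f' : X' ⟶ S'}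

/-- **the local hypothesis for `P ⊗ G`** -/
theorem quasiIso_tMap_flat [IsAffineHom g₀] (H : IsPullback g' f' f g₀) {G : X.Modules} (hG : Coh.IsQCoh G)
    (hflat : FlatMod.IsFlatOver f G) {P : CochainComplex S.Modules ℤ} (hP : DCoh.IsKFlat P)
    (p : P ⟶ sg ((Scheme.Modules.pushforward g₀).obj (OO S'))) [QuasiIso p]
    {E : CochainComplex X.Modules ℤ} (hE : DCoh.IsKFlat E) (hEq : ∀ i, Coh.IsQCoh (E.homology i))
    {J : CochainComplex X'.Modules ℤ} [J.IsKInjective] (t : (qC g').obj ((TN G).obj E) ⟶ J) [QuasiIso t]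
    (π : (TN G).obj E ⟶ (pC g').obj J)
    (hπ : flat' g' π = t) : QuasiIso (tMap H.w p π) := by
  haveI : IsAffineHom g' := MorphismProperty.of_isPullback H.flip ‹IsAffineHom g₀›
  obtain ⟨J₁, t₁, hJ₁, ht₁, h₁⟩ := exists_res_kappa g' G hG hE hEq
  obtain ⟨k, hk⟩ := KInj.Q_map_surjective (K := J₁) (I := J)
    (inv (DerivedCategory.Q.map t₁) ≫ DerivedCategory.Q.map t)
  have hk' : DerivedCategory.Q.map (t₁ ≫ k) = DerivedCategory.Q.map t := by
    rw [Functor.map_comp, hk, IsIso.hom_inv_id_assoc]
  haveI : QuasiIso k := by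
    haveI : IsIso (DerivedCategory.Q.map t₁ ≫ DerivedCategory.Q.map k) := by
      rw [← Functor.map_comp, hk']; infer_instance
    exact (DerivedCategory.isIso_Q_map_iff_quasiIso _ _).1
      (IsIso.of_isIso_comp_left (DerivedCategory.Q.map t₁) _)
  haveI := quasiIso_push_kInj g' k
  haveI := h₁
  haveI h₂ : QuasiIso (unitActC g' ((TN G).obj E) ≫ (pC g').map t) := by
    obtain ⟨Hk⟩ := KInj.nonempty_homotopy_of_Q_map_eq hk'
    let H' : Homotopy (t₁ ≫ k) t := Homotopy.equivSubZero.symm Hk
    have h := HomotopyCategory.eq_of_homotopy _ _ ((Scheme.Modules.pushforward g').mapHomotopy H')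
    have h' := congrArg (fun r => (DerivedCategory.quotientCompQhIso X.Modules).inv.app _ ≫
      DerivedCategory.Qh.map r ≫ (DerivedCategory.quotientCompQhIso X.Modules).hom.app _) h
    have hQ : DerivedCategory.Q.map ((pC g').map (t₁ ≫ k)) = DerivedCategory.Q.map ((pC g').map t) := by
      simpa using h'
    refine (DerivedCategory.isIso_Q_map_iff_quasiIso _ _).1 ?_
    rw [Functor.map_comp, ← hQ, ← Functor.map_comp, Functor.map_comp (pC g'), ← Category.assoc]
    infer_instance
  have hψ : psi g' π = unitActC g' ((TN G).obj E) ≫ (pC g').map t := by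
    rw [← hπ]
    exact psi_eq_unitActC g' _ π (flat'_spec g' π)
  -- tensoring with `G`
  let b := (qC f).map p ≫ betaC H.w
  haveI : (Scheme.Modules.pullback f ⋙ (schB X).flip.obj G).PreservesHomology := preservesHomology_flatPull f G hflat
  haveI : IsIso (beta H.w) := isIso_beta H
  haveI : IsIso (betaC H.w) :=
    inferInstanceAs (IsIso ((singleMapHomologicalComplex (Scheme.Modules.pullback f) (ComplexShape.up ℤ) 0).hom.app _ ≫
      (HomologicalComplex.single X.Modules (ComplexShape.up ℤ) 0).map (beta H.w)))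
  haveI : QuasiIso ((TN G).map ((qC f).map p)) :=
    (inferInstance : QuasiIso (((Scheme.Modules.pullback f ⋙ (schB X).flip.obj G).mapHomologicalComplex
      (ComplexShape.up ℤ)).map p))
  haveI : QuasiIso ((TN G).map b) := by
    rw [Functor.map_comp]; infer_instance
  have hsL : ∀ {A B : CochainComplex X.Modules ℤ} (a : A ⟶ B),
      (TN G).map a ≫ (sL B G).hom = (sL A G).hom ≫ (DCoh.tensorCx.obj (sg G)).map a := fun {A B} a => by
    simp only [sL, Iso.trans_hom, reassoc_of% (sR_natural a G), Category.assoc]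
    exact congrArg (_ ≫ ·) (RHomCx.swapIso_natural (braid X.sheaf) a (𝟙 (sg G)))
  haveI : QuasiIso ((DCoh.tensorCx.obj (sg G)).map b) := by
    haveI : QuasiIso ((sL _ G).hom ≫ (DCoh.tensorCx.obj (sg G)).map b) := by
      rw [← hsL b]; infer_instance
    exact quasiIso_of_comp_left (sL ((qC f).obj P) G).hom _
  haveI : QuasiIso ((DCoh.tensorCx.obj E).map ((DCoh.tensorCx.obj (sg G)).map b)) :=
    quasiIso_tens_of_kFlat hE _
  haveI : QuasiIso ((DCoh.tensorCx.obj ((DCoh.tensorCx.obj E).obj (sg G))).map b) := by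
    have h := RHomCx.assocTot_natural₃ X.sheaf E (sg G) b
    have e : (DCoh.tensorCx.obj ((DCoh.tensorCx.obj E).obj (sg G))).map b =
        (assocTot X.sheaf E (sg G) _).hom ≫ (DCoh.tensorCx.obj E).map ((DCoh.tensorCx.obj (sg G)).map b) ≫
          (assocTot X.sheaf E (sg G) _).inv := by
      rw [← Category.assoc, Iso.eq_comp_inv]
      exact h
    rw [e]; infer_instance
  haveI : QuasiIso ((DCoh.tensorCx.obj ((TN G).obj E)).map b) := by
    haveI : QuasiIso ((DCoh.tensorCx.map (sR E G).hom).app _ ≫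
        (DCoh.tensorCx.obj ((DCoh.tensorCx.obj E).obj (sg G))).map b) := inferInstance
    haveI : QuasiIso ((DCoh.tensorCx.obj ((TN G).obj E)).map b ≫ (DCoh.tensorCx.map (sR E G).hom).app _) := by
      rw [(DCoh.tensorCx.map (sR E G).hom).naturality b]; infer_instance
    exact quasiIso_of_comp_right _ ((DCoh.tensorCx.map (sR E G).hom).app _)
  change QuasiIso ((DCoh.tensorCx.obj ((TN G).obj E)).map b ≫ (sR ((TN G).obj E) _).inv ≫ psi g' π)
  rw [hψ]
  infer_instance

end Groth.Agent.TorBC
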