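import Groth.Agent.KInj.Ops
import Groth.Agent.KFlat.Acyclic
import Mathlib.Algebra.Homology.HomotopyCategory.MappingCocone
import Mathlib.Algebra.Homology.HomotopyCategory.DegreewiseSplit

/-!
Homotopy pullbacks of a quasi-isomorphism: a complex over `I` and over `P`.
-/

set_option autoImplicit false
set_option backward.isDefEq.respectTransparency false
set_option backward.isDefEq.respectTransparency.types false
set_option linter.style.haveILetI false

universe v u v' u'

open ZeroObject CategoryTheory Limits Pretriangulated CochainComplex HomComplex HomologicalComplex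

namespace Groth.Agent.TorBC

variable {A : Type u} [Category.{v} A] [Abelian A] {I P J : CochainComplex A ℤ} (k : I ⟶ J) (ψ : P ⟶ J)

/-- `I ⟶ Cone(ψ)` -/
noncomputable abbrev hpMap : I ⟶ mappingCone ψ := k ≫ mappingCone.inr ψ

/-- the homotopy pullback of `k` and `ψ` -/
noncomputable abbrev hp : CochainComplex A ℤ := mappingCocone (hpMap k ψ)

/-- the projection to `I` -/
noncomputable abbrev hpσ : hp k ψ ⟶ I := mappingCocone.fst (hpMap k ψ)

/-- the projection to `P` -/
noncomputable def hpπ : hp k ψ ⟶ P :=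
  mappingCocone.desc (hpMap k ψ) (0 : Cochain I P 0) (-mappingCone.fst ψ) (by
    simp [Cochain.ofHom_comp, Cochain.comp_assoc_of_second_is_zero_cochain])

/-- maps into the homotopy pullback -/
theorem exists_hp_lift {L : CochainComplex A ℤ} (α : L ⟶ I) (β : L ⟶ P) (h : Homotopy (β ≫ ψ) (α ≫ k)) :
    ∃ l : L ⟶ hp k ψ, l ≫ hpσ k ψ = α ∧ l ≫ hpπ k ψ = β := by
  obtain ⟨z, hz⟩ := Cochain.equivHomotopy _ _ h
  have hz' : δ (-1) 0 z = Cochain.ofHom (β ≫ ψ) - Cochain.ofHom (α ≫ k) := eq_sub_of_add_eq hz.symm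
  let b : Cochain L (mappingCone ψ) (-1) :=
    mappingCone.liftCochain ψ (-Cochain.ofHom β) z (by lia)
  have hb : δ (-1) 0 b + Cochain.ofHom (α ≫ hpMap k ψ) = 0 := by
    simp only [b, mappingCone.δ_liftCochain ψ (-Cochain.ofHom β) z (by lia : (-1 : ℤ) + 1 = 0) 1 (zero_add 1), hz', hpMap]
    simp [Cochain.ofHom_comp]
    abel
  refine ⟨mappingCocone.lift _ α b hb, mappingCocone.lift_fst _ _ _ _, ?_⟩
  ext p
  obtain ⟨q, hq⟩ : ∃ q, p + -1 = q := ⟨_, rfl⟩
  rw [HomologicalComplex.comp_f]
  have e : (hpπ k ψ).f p = (mappingCocone.snd (hpMap k ψ)).v p q hq ≫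
      (-mappingCone.fst ψ).1.v q p (by lia) := by
    rw [← Category.id_comp ((hpπ k ψ).f p), ← mappingCocone.id_X (hpMap k ψ) p q hq, Preadditive.add_comp,
      Category.assoc, Category.assoc, hpπ, mappingCocone.inl_v_desc_f, mappingCocone.inr_v_desc_f]
    simp
  rw [e, mappingCocone.lift_f_snd_v_assoc]
  simp [b, mappingCone.liftCochain_v_fst_v]

variable [HasDerivedCategory.{u} A]

/-- functors for which `ψ` stays a quasi-isomorphism -/
theorem quasiIso_map_hpσ {B : Type u'} [Category.{v'} B] [Abelian B] [HasDerivedCategory.{u'} B]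
    (F : A ⥤ B) [F.Additive] (hψ : QuasiIso ((F.mapHomologicalComplex (ComplexShape.up ℤ)).map ψ)) :
    QuasiIso ((F.mapHomologicalComplex (ComplexShape.up ℤ)).map (hpσ k ψ)) := by
  let q := HomotopyCategory.quotient A (ComplexShape.up ℤ)
  let G := F.mapHomotopyCategory (ComplexShape.up ℤ) ⋙ DerivedCategory.Qh
  let T := q.mapTriangle.obj (mappingCocone.triangle (hpMap k ψ))
  have hT : T ∈ distTriang (HomotopyCategory A (ComplexShape.up ℤ)) := by
    rw [Pretriangulated.rotate_distinguished_triangle]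
    refine isomorphic_distinguished _ (HomotopyCategory.mappingCone_triangleh_distinguished (hpMap k ψ)) _ ?_
    exact (Functor.mapTriangleRotateIso q).app _ ≪≫ q.mapTriangle.mapIso (mappingCocone.rotateTriangleIso _)
  have hGT := G.map_distinguished T hT
  have h3 : IsZero ((G.mapTriangle.obj T).obj₃) := by
    let C := (F.mapHomologicalComplex (ComplexShape.up ℤ)).obj (mappingCone ψ)
    have hC : C.Acyclic := by
      haveI := hψ
      exact fun i => ((KFlat.mappingCone_acyclic
        ((F.mapHomologicalComplex (ComplexShape.up ℤ)).map ψ)) i).of_iso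
          (mappingCone.mapHomologicalComplexIso ψ F).symm
    haveI : QuasiIso (0 : C ⟶ 0) := ⟨fun n => (quasiIsoAt_iff_exactAt _ n (hC n)).2
      ((exactAt_iff_isZero_homology _ _).2 (HomologicalComplex.homologyFunctor _ _ n |>.map_isZero (isZero_zero _)))⟩
    exact ((DerivedCategory.Q.map_isZero (isZero_zero _)).of_iso
      (asIso (DerivedCategory.Q.map (0 : C ⟶ 0)))).of_iso ((DerivedCategory.quotientCompQhIso B).app C)
  haveI h1 : IsIso (G.map (q.map (hpσ k ψ))) :=
    (Triangle.isZero₃_iff_isIso₁ _ hGT).1 h3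
  rw [← DerivedCategory.isIso_Q_map_iff_quasiIso]
  exact (NatIso.isIso_map_iff (DerivedCategory.quotientCompQhIso B) _).1 h1

/-- the projection to `I` is a quasi-isomorphism -/
theorem quasiIso_hpσ [QuasiIso ψ] : QuasiIso (hpσ k ψ) := by
  haveI : QuasiIso (((𝟭 A).mapHomologicalComplex (ComplexShape.up ℤ)).map ψ) :=
    (inferInstance : QuasiIso ψ)
  exact quasiIso_map_hpσ k ψ (𝟭 A) inferInstance

end Groth.Agent.TorBC
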