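import Groth.Agent.TorBC.Local
import Groth.Agent.TorBC.FlatHyp
import Groth.Agent.TorBC.HPull
import Groth.Agent.DQCoh.Tensor
import Groth.Agent.KFlat.TorAmp
import Groth.Agent.FlatModBC.FlatAt

/-!
Base change for `Rf_*(E ⊗ G)` with `G` flat over the base.
-/

set_option autoImplicit false
set_option backward.isDefEq.respectTransparency false
set_option backward.isDefEq.respectTransparency.types false
set_option linter.style.haveILetI false
set_option linter.unusedSectionVars false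

universe u

open CategoryTheory Limits AlgebraicGeometry HomologicalComplex

attribute [local instance] HasDerivedCategory.standard

namespace Groth.Agent.TorBC

open Groth.Agent.KFlat Groth.Agent.ProjForm

variable {X Y S : Scheme.{u}}

lemma isQCoh_homology_TN {G : X.Modules} (hG : Coh.IsQCoh G) {E : CochainComplex X.Modules ℤ}
    (hE : DCoh.IsKFlat E) (hEq : ∀ i, Coh.IsQCoh (E.homology i)) :
    ∀ i, Coh.IsQCoh (((TN G).obj E).homology i) := fun i =>
  (DQCoh.goodAt_iff hE (𝟙 E) i).1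
    (DQCoh.good_of_qcoh (DQCoh.base_modDatum hG) (DQCoh.rightBounded_modDatum G) hEq i)

lemma isQCoh_homology_qC (g : Y ⟶ X) {E : CochainComplex X.Modules ℤ} (hE : DCoh.IsKFlat E)
    (hEq : ∀ i, Coh.IsQCoh (E.homology i)) : ∀ i, Coh.IsQCoh (((qC g).obj E).homology i) := fun i => by
  haveI := KFlat.hasLpull g
  exact QC.isQCoh_of_iso ((DerivedCategory.homologyFunctor _ i).mapIso (ProjForm.lpullIso g hE) ≪≫ hdIso _ i)
    (DQCoh.isQCohD_Lpull g _ (fun j => QC.isQCoh_of_iso (hdIso E j).symm (hEq j)) i)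

/-- `tMap` of a composite -/
lemma tMap_comp {X' S' : Scheme.{u}} {g' : X' ⟶ X} {f : X ⟶ S} {g₀ : S' ⟶ S} {f' : X' ⟶ S'}
    (w : g' ≫ f = f' ≫ g₀) {P : CochainComplex S.Modules ℤ}
    (p : P ⟶ sg ((Scheme.Modules.pushforward g₀).obj (OO S'))) {L N : CochainComplex X.Modules ℤ} (a : L ⟶ N)
    {J : CochainComplex X'.Modules ℤ} (π : N ⟶ (pC g').obj J) :
    tMap w p (a ≫ π) = (DCoh.tensorCx.map a).app ((qC f).obj P) ≫ tMap w p π := by
  let GO := (Scheme.Modules.pushforward g').obj (OO X')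
  have h : (sR L GO).inv ≫ (TN GO).map a = (DCoh.tensorCx.map a).app (sg GO) ≫ (sR N GO).inv := by
    rw [Iso.inv_comp_eq, ← Category.assoc, Iso.eq_comp_inv]
    exact sR_natural a GO
  simp only [tMap]
  rw [psi_comp, reassoc_of% h, reassoc_of% ((DCoh.tensorCx.map a).naturality ((qC f).map p ≫ betaC w))]

variable {S' X' : Scheme.{u}} {f : X ⟶ S} {g₀ : S' ⟶ S} {g' : X' ⟶ X} {f' : X' ⟶ S'}

/-- the local hypothesis, after restriction to an affine piece -/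
theorem exists_local_flat {G : X.Modules} (hG : Coh.IsQCoh G) (hflat : FlatMod.IsFlatOver f G)
    {E : CochainComplex X.Modules ℤ} (hE : DCoh.IsKFlat E) (hEq : ∀ i, Coh.IsQCoh (E.homology i))
    {N : CochainComplex X.Modules ℤ} (l : (TN G).obj E ⟶ N) [QuasiIso l]
    {J : CochainComplex X'.Modules ℤ} [J.IsKInjective] (π : N ⟶ (pC g').obj J)
    [QuasiIso (flat' g' (l ≫ π))]
    {Vs Xs Ws Ys : Scheme.{u}} (jV : Vs ⟶ S) (jX : Xs ⟶ X) (jY : Ys ⟶ X') [IsOpenImmersion jV]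
    [IsOpenImmersion jX] [IsOpenImmersion jY] {fV : Xs ⟶ Vs} {gW : Ws ⟶ Vs} {gY : Ys ⟶ Xs} {fY : Ys ⟶ Ws}
    [IsAffine Vs] [IsAffine Ws] (HW : IsPullback gY fY fV gW) (wf : fV ≫ jV = jX ≫ f)
    (wg' : gY ≫ jX = jY ≫ g') (hrf : jX.opensRange = f ⁻¹ᵁ jV.opensRange) :
    ∃ (P : CochainComplex Vs.Modules ℤ) (p : P ⟶ sg ((Scheme.Modules.pushforward gW).obj (OO Ws))),
      DCoh.IsKFlat P ∧ QuasiIso p ∧ QuasiIso (tMap HW.w p (resC wg' π)) := by
  haveI : CochainComplex.IsKInjective ((rC jY).obj J) := DQPush.isKInjective_restrict_open jY J ‹_›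
  let P := (resF Vs).obj (sg ((Scheme.Modules.pushforward gW).obj (OO Ws)))
  let p := (resψ Vs).app (sg ((Scheme.Modules.pushforward gW).obj (OO Ws)))
  have hP : DCoh.IsKFlat P := isKFlat_resF _
  refine ⟨P, p, hP, inferInstance, ?_⟩
  let G₁ := (Scheme.Modules.pullback jX).obj G
  let E₁ := (qC jX).obj E
  have hE₁ : DCoh.IsKFlat E₁ := isKFlat_pullback jX hE
  have HX : IsPullback jX fV f jV :=
    (IsOpenImmersion.isPullback fV jX jV f wf.symm hrf.symm).flip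
  have hflat₁ : FlatMod.IsFlatOver fV G₁ := fun x => FlatModBC.isFlatOverAt_baseChange HX G x (hflat _)
  let e : (TN G₁).obj E₁ ≅ (rC jX).obj ((TN G).obj E) :=
    ptC jX G E ≪≫
      ((NatIso.mapHomologicalComplex (Scheme.Modules.restrictFunctorIsoPullback jX) (ComplexShape.up ℤ)).app
        ((TN G).obj E)).symm
  let π₁ := e.hom ≫ resC wg' (l ≫ π)
  haveI : QuasiIso (flat' gY π₁) := by
    haveI := quasiIso_flat'_resC wg' (l ≫ π)
    rw [flat'_naturality_left]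
    infer_instance
  haveI h1 : QuasiIso (tMap HW.w p π₁) :=
    quasiIso_tMap_flat HW (QC.isQCoh_pullback jX hG) hflat₁ hP p hE₁ (isQCoh_homology_qC jX hE hEq)
      (flat' gY π₁) π₁ rfl
  have e1 : π₁ = (e.hom ≫ (rC jX).map l) ≫ resC wg' π := by
    simp only [π₁, resC_comp, Category.assoc]
  rw [e1, tMap_comp] at h1
  haveI := h1
  haveI : QuasiIso ((DCoh.tensorCx.map (e.hom ≫ (rC jX).map l)).app ((qC fV).obj P)) :=
    quasiIso_map_app_sch _ (isKFlat_pullback fV hP) _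
  exact quasiIso_of_comp_left ((DCoh.tensorCx.map (e.hom ≫ (rC jX).map l)).app ((qC fV).obj P)) _

/-- **base change for `E ⊗ G`, `G` flat over the base** -/
theorem nonempty_baseChange_flat [QuasiCompact f] [QuasiSeparated f] (H : IsPullback g' f' f g₀) (E : DCoh.D X)
    (hE : DCoh.IsQCohD E) (G : X.Modules) (hG : Coh.IsQCoh G) (hflat : FlatMod.IsFlatOver f G)
    [DCoh.HasLTensorMod G] [DCoh.HasRpush f] [DCoh.HasLpull g₀] [DCoh.HasLpull g'] [DCoh.HasRpush f']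
    [DCoh.HasLTensorMod ((Scheme.Modules.pullback g').obj G)] :
    Nonempty ((DCoh.Lpull g₀).obj ((DCoh.Rpush f).obj ((DCoh.LTensorMod G).obj E)) ≅
      (DCoh.Rpush f').obj ((DCoh.LTensorMod ((Scheme.Modules.pullback g').obj G)).obj
        ((DCoh.Lpull g').obj E))) := by
  obtain ⟨E₀, hE₀, -, ⟨ε⟩⟩ := KFlat.exists_isKFlat_rep E
  have hEq : ∀ i, Coh.IsQCoh (E₀.homology i) := fun i =>
    QC.isQCoh_of_iso ((DerivedCategory.homologyFunctor _ i).mapIso ε.symm ≪≫ hdIso E₀ i) (hE i)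
  let G' := (Scheme.Modules.pullback g').obj G
  let L := (TN G).obj E₀
  have hE' : DCoh.IsKFlat ((qC g').obj E₀) := isKFlat_pullback g' hE₀
  -- resolutions
  obtain ⟨I, σ₀, hI, hσ₀⟩ := DerPush.exists_kInj_sch L
  obtain ⟨J, t, hJ, ht⟩ := DerPush.exists_kInj_sch ((qC g').obj L)
  let β : L ⟶ (pC g').obj J :=
    (KInj.mapHomologicalComplexAdj (Scheme.Modules.pullbackPushforwardAdjunction g') (ComplexShape.up ℤ)).homEquiv L J t
  have hβ : flat' g' β = t := Equiv.symm_apply_apply _ _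
  obtain ⟨J₂, ψ, hJ₂, hψ⟩ := DerPush.exists_kInj_sch ((pC g').obj J)
  obtain ⟨k, hk⟩ := KInj.Q_map_surjective (K := I) (I := J₂)
    (inv (DerivedCategory.Q.map σ₀) ≫ DerivedCategory.Q.map (β ≫ ψ))
  have hk' : DerivedCategory.Q.map (β ≫ ψ) = DerivedCategory.Q.map (σ₀ ≫ k) := by
    rw [Functor.map_comp _ σ₀, hk, IsIso.hom_inv_id_assoc]
  obtain ⟨Hk⟩ := KInj.nonempty_homotopy_of_Q_map_eq hk'
  obtain ⟨l, hl₁, hl₂⟩ := exists_hp_lift k ψ σ₀ β (Homotopy.equivSubZero.symm Hk)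
  haveI := quasiIso_hpσ k ψ
  haveI hfσ : QuasiIso ((pC f).map (hpσ k ψ)) :=
    quasiIso_map_hpσ k ψ (Scheme.Modules.pushforward f) (quasiIso_push_res g' f J ψ)
  haveI : QuasiIso l := by
    haveI : QuasiIso (l ≫ hpσ k ψ) := by rw [hl₁]; infer_instance
    exact quasiIso_of_comp_right l (hpσ k ψ)
  haveI : QuasiIso (flat' g' (l ≫ hpπ k ψ)) := by rw [hl₂, hβ]; infer_instance
  let F := (resF S).obj ((pC f).obj (hp k ψ))
  let q := (resψ S).app ((pC f).obj (hp k ψ))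
  have hF : DCoh.IsKFlat F := isKFlat_resF _
  have hIq : ∀ i, Coh.IsQCoh (I.homology i) :=
    isQCoh_homology_of_qis σ₀ (isQCoh_homology_TN hG hE₀ hEq)
  have hJq : ∀ i, Coh.IsQCoh (J.homology i) :=
    isQCoh_homology_of_qis ((ptC g' G E₀).hom ≫ t)
      (isQCoh_homology_TN (QC.isQCoh_pullback g' hG) hE' (isQCoh_homology_qC g' hE₀ hEq))
  haveI hΦ : QuasiIso (flat' g₀ (q ≫ (pC f).map (hpπ k ψ) ≫ bcX H.w J)) :=
    quasiIso_baseChange_local H (hpσ k ψ) hIq hJq (hpπ k ψ)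
      (fun jV jX _ jY _ _ _ _ _ _ _ _ _ _ _ _ HW wf wg' _ hrf =>
        exists_local_flat hG hflat hE₀ hEq l (hpπ k ψ) jV jX jY HW wf wg' hrf) hF q
  -- assembly
  let eL : (DCoh.LTensorMod G).obj E ≅ DerivedCategory.Q.obj I :=
    (DCoh.LTensorMod G).mapIso ε.symm ≪≫ lTensorModIso G hE₀ ≪≫ asIso (DerivedCategory.Q.map σ₀)
  let eR : (DCoh.LTensorMod G').obj ((DCoh.Lpull g').obj E) ≅ DerivedCategory.Q.obj J :=
    (DCoh.LTensorMod G').mapIso ((DCoh.Lpull g').mapIso ε.symm ≪≫ ProjForm.lpullIso g' hE₀) ≪≫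
      lTensorModIso G' hE' ≪≫ asIso (DerivedCategory.Q.map ((ptC g' G E₀).hom ≫ t))
  let eF : DerivedCategory.Q.obj F ≅ DerivedCategory.Q.obj ((pC f).obj I) :=
    asIso (DerivedCategory.Q.map (q ≫ (pC f).map (hpσ k ψ)))
  exact ⟨(DCoh.Lpull g₀).mapIso ((DCoh.Rpush f).mapIso eL ≪≫ (ProjForm.rpushIso f I).symm ≪≫ eF.symm) ≪≫
    ProjForm.lpullIso g₀ hF ≪≫ asIso (DerivedCategory.Q.map (flat' g₀ (q ≫ (pC f).map (hpπ k ψ) ≫ bcX H.w J))) ≪≫
    ProjForm.rpushIso f' J ≪≫ (DCoh.Rpush f').mapIso eR.symm⟩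

end Groth.Agent.TorBC
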