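import Groth.Agent.FlatBCD.Derived

/-!
Direct images of K-injective complexes are acyclic for further direct images; the derived direct
images along a commutative square agree.
-/

set_option autoImplicit false
set_option backward.isDefEq.respectTransparency false
set_option backward.isDefEq.respectTransparency.types false
set_option linter.style.haveILetI false
set_option linter.unusedSectionVars false

universe u

open CategoryTheory CategoryTheory.Limits AlgebraicGeometry TopologicalSpace Opposite

attribute [local instance] HasDerivedCategory.standard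

namespace Groth.Agent.TorBC

open Groth.Agent.FlatBCD

variable {X Y Z : Scheme.{u}} (g : X ⟶ Y) (h : Y ⟶ Z)

/-- `(g ≫ h)_* = h_* g_*` on complexes -/
noncomputable def pcCompIso (I : CochainComplex X.Modules ℤ) :
    ((Scheme.Modules.pushforward (g ≫ h)).mapHomologicalComplex (ComplexShape.up ℤ)).obj I ≅
      ((Scheme.Modules.pushforward h).mapHomologicalComplex (ComplexShape.up ℤ)).obj
        (((Scheme.Modules.pushforward g).mapHomologicalComplex (ComplexShape.up ℤ)).obj I) :=
  (NatIso.mapHomologicalComplex (Scheme.Modules.pushforwardComp g h).symm (ComplexShape.up ℤ)).app I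

/-- maps from K-flat complexes into `h_* g_* I` -/
theorem bijective_Qh_push_comp {F : CochainComplex Z.Modules ℤ} (hF : DCoh.IsKFlat F)
    (I : CochainComplex X.Modules ℤ) [I.IsKInjective] :
    Function.Bijective fun m : (HomotopyCategory.quotient Z.Modules (ComplexShape.up ℤ)).obj F ⟶
        (pH h).obj ((pH g).obj ((HomotopyCategory.quotient X.Modules (ComplexShape.up ℤ)).obj I)) =>
      DerivedCategory.Qh.map m := by
  haveI := KFlat.hasLpull (g ≫ h)
  haveI := DerPush.hasRpush_sch (g ≫ h)
  exact bijective_map_of_iso DerivedCategory.Qh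
    ((HomotopyCategory.quotient Z.Modules (ComplexShape.up ℤ)).mapIso (pcCompIso g h I))
    (bijective_Qh_push (g ≫ h) hF I)

/-- `h_*` respects K-injective resolutions of `g_* I` -/
theorem quasiIso_push_res (I : CochainComplex X.Modules ℤ) [I.IsKInjective] {J : CochainComplex Y.Modules ℤ}
    [J.IsKInjective]
    (s : ((Scheme.Modules.pushforward g).mapHomologicalComplex (ComplexShape.up ℤ)).obj I ⟶ J) [QuasiIso s] :
    QuasiIso (((Scheme.Modules.pushforward h).mapHomologicalComplex (ComplexShape.up ℤ)).map s) := by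
  haveI := KFlat.hasLpull g
  haveI := KFlat.hasLpull h
  haveI := DerPush.hasRpush_sch g
  haveI := DerPush.hasRpush_sch h
  let q := HomotopyCategory.quotient Y.Modules (ComplexShape.up ℤ)
  let qS := HomotopyCategory.quotient Z.Modules (ComplexShape.up ℤ)
  let I' := ((Scheme.Modules.pushforward g).mapHomologicalComplex (ComplexShape.up ℤ)).obj I
  haveI hQs : IsIso (DerivedCategory.Qh.map (q.map s)) :=
    (NatIso.isIso_map_iff (DerivedCategory.quotientCompQhIso Y.Modules) s).2 inferInstance
  let σ := (pH h).map (q.map s)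
  have hbc : ∀ {F : CochainComplex Z.Modules ℤ}, DCoh.IsKFlat F →
      Function.Bijective fun m : qS.obj F ⟶ (pH h).obj (q.obj I') => DerivedCategory.Qh.map m :=
    fun hF => bijective_Qh_push_comp g h hF I
  have hpost : ∀ {F : CochainComplex Z.Modules ℤ}, DCoh.IsKFlat F →
      Function.Bijective fun m : qS.obj F ⟶ (pH h).obj (q.obj I') => m ≫ σ := fun hF =>
    bijective_comp_adj _ (adjK h) (q.map s) (bijective_comp_of_map DerivedCategory.Qh (q.map s)
      (bijective_Qh_push g (KFlat.isKFlat_pullback h hF) I)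
      (CochainComplex.IsKInjective.Qh_map_bijective _ J))
  haveI : IsIso (DerivedCategory.Qh.map σ) := by
    refine isIso_of_yoneda_map_bijective _ fun T => ?_
    let K := (DerivedCategory.Q : _ ⥤ DCoh.D Z).objPreimage T
    have hF : DCoh.IsKFlat ((KFlat.resF Z).obj K) := KFlat.isKFlat_resF K
    exact bijective_map_comp DerivedCategory.Qh σ (hbc hF) (bijective_Qh_push h hF J) (hpost hF)
      ((DerivedCategory.quotientCompQhIso Z.Modules).app _ ≪≫
        asIso (DerivedCategory.Q.map ((KFlat.resψ Z).app K)) ≪≫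
        (DerivedCategory.Q : _ ⥤ DCoh.D Z).objObjPreimageIso T)
  refine (DerivedCategory.isIso_Q_map_iff_quasiIso _ _).1 ?_
  exact (NatIso.isIso_map_iff (DerivedCategory.quotientCompQhIso Z.Modules)
    (((Scheme.Modules.pushforward h).mapHomologicalComplex (ComplexShape.up ℤ)).map s)).1
    ‹IsIso (DerivedCategory.Qh.map σ)›

/-- `g_* I` computes `Rh_*` -/
theorem isIso_rpushUnit_push [DCoh.HasRpush h] (I : CochainComplex X.Modules ℤ) [I.IsKInjective] :
    IsIso ((DerPush.rpushUnit h).app
      ((pH g).obj ((HomotopyCategory.quotient X.Modules (ComplexShape.up ℤ)).obj I))) := by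
  let q := HomotopyCategory.quotient Y.Modules (ComplexShape.up ℤ)
  let I' := ((Scheme.Modules.pushforward g).mapHomologicalComplex (ComplexShape.up ℤ)).obj I
  obtain ⟨J, s, hJ, hs⟩ := DerPush.exists_kInj_sch I'
  haveI := quasiIso_push_res g h I s
  haveI hσ : IsIso ((DCoh.pushKh h).map (q.map s)) :=
    (NatIso.isIso_map_iff (DerivedCategory.quotientCompQhIso Z.Modules)
      (((Scheme.Modules.pushforward h).mapHomologicalComplex (ComplexShape.up ℤ)).map s)).2 inferInstance
  haveI hQs : IsIso (DerivedCategory.Qh.map (q.map s)) :=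
    (NatIso.isIso_map_iff (DerivedCategory.quotientCompQhIso Y.Modules) s).2 inferInstance
  haveI : IsIso ((DerPush.rpushUnit h).app (q.obj J)) := DerPush.isIso_rpushUnit_app h (I := q.obj J) hJ
  have e := (DerPush.rpushUnit h).naturality (q.map s)
  haveI : IsIso ((DCoh.pushKh h).map (q.map s) ≫ (DerPush.rpushUnit h).app (q.obj J)) := inferInstance
  haveI : IsIso ((DerivedCategory.Qh ⋙ DCoh.Rpush h).map (q.map s)) :=
    inferInstanceAs (IsIso ((DCoh.Rpush h).map (DerivedCategory.Qh.map (q.map s))))
  exact IsIso.of_isIso_fac_right e.symm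

variable {W : Scheme.{u}} {f : Y ⟶ Z} {g' : X ⟶ Y} {g₀ : W ⟶ Z} {f' : X ⟶ W}

/-- both composites are derived functors of `f_* g'_*` -/
theorem exists_iso (w : g' ≫ f = f' ≫ g₀) [DCoh.HasRpush f] [DCoh.HasRpush g₀] [DCoh.HasRpush f']
    [DCoh.HasRpush g'] :
    ∃ e : DCoh.Rpush g' ⋙ DCoh.Rpush f ≅ DCoh.Rpush f' ⋙ DCoh.Rpush g₀,
      tau' (f := f) (g' := g') ≫ Functor.whiskerLeft DerivedCategory.Qh e.hom = tau'' w := by
  let W' := HomotopyCategory.quasiIso X.Modules (ComplexShape.up ℤ)
  have hdef := KInj.isDeforming_Qh (DerPush.exists_kInj_sch (X := X)) (pH g' ⋙ DCoh.pushKh f)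
  haveI := hdef.isRightDerivedFunctor W' (DCoh.Rpush g' ⋙ DCoh.Rpush f) (tau' (f := f) (g' := g')) fun I hI => by
    haveI : CochainComplex.IsKInjective I.as := hI
    haveI := DerPush.isIso_rpushUnit_app g' hI
    haveI : IsIso ((DerPush.rpushUnit f).app ((pH g').obj I)) := isIso_rpushUnit_push g' f I.as
    rw [tau'_app]
    infer_instance
  haveI := hdef.isRightDerivedFunctor W' (DCoh.Rpush f' ⋙ DCoh.Rpush g₀) (tau'' w) fun I hI => by
    haveI : CochainComplex.IsKInjective I.as := hI
    haveI := DerPush.isIso_rpushUnit_app f' hI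
    haveI : IsIso ((DerPush.rpushUnit g₀).app ((pH f').obj I)) := isIso_rpushUnit_push f' g₀ I.as
    haveI := isIso_bcK_app w I
    rw [tau''_app]
    infer_instance
  refine ⟨Functor.rightDerivedNatIso _ _ (tau' (f := f) (g' := g')) (tau'' w) W' (Iso.refl _), ?_⟩
  exact (Functor.rightDerivedNatTrans_fac _ _ _ _ W' _).trans (Category.id_comp _)

end Groth.Agent.TorBC
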