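import Groth.Agent.TorBC.Chain
import Groth.Agent.TorBC.Comp
import Groth.Agent.ProjForm.Main
import Groth.Agent.DQPush.Affine

/-!
Base change along an affine morphism, through the projection formula.
-/

set_option autoImplicit false
set_option backward.isDefEq.respectTransparency false
set_option backward.isDefEq.respectTransparency.types false
set_option linter.style.haveILetI false
set_option linter.unusedSectionVars false

universe u

open CategoryTheory Limits AlgebraicGeometry HomologicalComplex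

attribute [local instance] HasDerivedCategory.standard

namespace Groth.Agent.TorBC

open Groth.Agent.KFlat Groth.Agent.ProjForm

variable {X Y : Scheme.{u}}

/-- tensoring a K-flat complex on the right with a quasi-isomorphism -/
lemma quasiIso_tens_of_kFlat {K : CochainComplex X.Modules ℤ} (hK : DCoh.IsKFlat K)
    {P Q : CochainComplex X.Modules ℤ} (α : P ⟶ Q) [QuasiIso α] : QuasiIso ((DCoh.tensorCx.obj K).map α) := by
  haveI := quasiIso_map_app_sch K hK α
  have h : (DCoh.tensorCx.obj K).map α =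
      (swapIso (braid X.sheaf) K P).hom ≫ (DCoh.tensorCx.map α).app K ≫ (swapIso (braid X.sheaf) K Q).inv := by
    rw [← Category.assoc, Iso.eq_comp_inv]
    exact RHomCx.swapIso_natural (braid X.sheaf) (𝟙 K) α
  rw [h]
  infer_instance

/-- quasi-isomorphisms of K-injective complexes are preserved by direct images -/
lemma quasiIso_push_kInj (f : X ⟶ Y) {I J : CochainComplex X.Modules ℤ} [I.IsKInjective] [J.IsKInjective]
    (k : I ⟶ J) [QuasiIso k] : QuasiIso ((pC f).map k) :=
  quasiIso_of_qisOn _ fun y => ⟨⊤, trivial, qisOn_push f k (qisOn_of_quasiIso _ k)⟩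

lemma isQCoh_homology_sg {M : X.Modules} (hM : Coh.IsQCoh M) : ∀ i, Coh.IsQCoh ((sg M).homology i) := fun i => by
  by_cases hi : i = 0
  · subst hi
    exact QC.isQCoh_of_iso (singleObjHomologySelfIso (ComplexShape.up ℤ) 0 M).symm hM
  · exact DQCoh.isQCoh_of_isZero (isZero_single_obj_homology _ _ _ _ hi)

lemma isQCoh_homology_of_qis {A B : CochainComplex X.Modules ℤ} (a : A ⟶ B) [QuasiIso a]
    (h : ∀ i, Coh.IsQCoh (A.homology i)) : ∀ i, Coh.IsQCoh (B.homology i) := fun i =>
  QC.isQCoh_of_iso (isoOfQuasiIsoAt a i) (h i)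

lemma isQCoh_homology_of_qis' {A B : CochainComplex X.Modules ℤ} (a : A ⟶ B) [QuasiIso a]
    (h : ∀ i, Coh.IsQCoh (B.homology i)) : ∀ i, Coh.IsQCoh (A.homology i) := fun i =>
  QC.isQCoh_of_iso (isoOfQuasiIsoAt a i).symm (h i)

/-- transpose of a map into a direct image -/
noncomputable abbrev flat' (g : Y ⟶ X) {F : CochainComplex X.Modules ℤ} {D : CochainComplex Y.Modules ℤ}
    (u : F ⟶ (pC g).obj D) : (qC g).obj F ⟶ D :=
  ((KInj.mapHomologicalComplexAdj (Scheme.Modules.pullbackPushforwardAdjunction g) (ComplexShape.up ℤ)).homEquiv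
    F D).symm u

lemma flat'_spec (g : Y ⟶ X) {F : CochainComplex X.Modules ℤ} {D : CochainComplex Y.Modules ℤ}
    (u : F ⟶ (pC g).obj D) (n : ℤ) :
    u.f n = (Scheme.Modules.pullbackPushforwardAdjunction g).unit.app (F.X n) ≫
      (Scheme.Modules.pushforward g).map ((flat' g u).f n) := by
  let a := KInj.mapHomologicalComplexAdj (Scheme.Modules.pullbackPushforwardAdjunction g) (ComplexShape.up ℤ)
  have h : a.unit.app F ≫ (pC g).map (flat' g u) = u :=
    (a.homEquiv_unit _ _ _).symm.trans ((a.homEquiv F D).apply_symm_apply u)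
  exact (congrArg (fun t : F ⟶ (pC g).obj D => t.f n) h).symm

section Affine

variable (g : Y ⟶ X) [IsAffineHom g]

/-- `g_*` of a resolution of a quasi-coherent module -/
lemma quasiIso_push_sg {D : Y.Modules} (hD : Coh.IsQCoh D) {IO : CochainComplex Y.Modules ℤ} [IO.IsKInjective]
    (ι : sg D ⟶ IO) [QuasiIso ι] : QuasiIso ((pC g).map ι) := by
  haveI := DerPush.hasRpush_sch g
  let q := HomotopyCategory.quotient Y.Modules (ComplexShape.up ℤ)
  have hq : ∀ n, Coh.IsQCoh ((sg D).X n) := fun n => by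
    by_cases hn : n = 0
    · subst hn
      exact QC.isQCoh_of_iso (singleObjXSelf (ComplexShape.up ℤ) 0 D).symm hD
    · exact DQCoh.isQCoh_of_isZero (isZero_single_obj_X _ _ _ _ hn)
  haveI := DQPush.isIso_unit_of_affine g (sg D) hq
  haveI : IsIso ((DerPush.rpushUnit g).app (q.obj IO)) := DerPush.isIso_rpushUnit_app g (I := q.obj IO) ‹_›
  haveI : IsIso (DerivedCategory.Qh.map (q.map ι)) :=
    (NatIso.isIso_map_iff (DerivedCategory.quotientCompQhIso Y.Modules) ι).2 inferInstance
  have e := (DerPush.rpushUnit g).naturality (q.map ι)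
  haveI : IsIso ((DerPush.rpushUnit g).app (q.obj (sg D)) ≫
      (DCoh.Rpush g).map (DerivedCategory.Qh.map (q.map ι))) := inferInstance
  haveI : IsIso ((DCoh.pushKh g).map (q.map ι) ≫ (DerPush.rpushUnit g).app (q.obj IO)) :=
    e.symm ▸ ‹IsIso ((DerPush.rpushUnit g).app (q.obj (sg D)) ≫ _)›
  haveI : IsIso ((DCoh.pushKh g).map (q.map ι)) :=
    IsIso.of_isIso_comp_right _ ((DerPush.rpushUnit g).app (q.obj IO))
  refine (DerivedCategory.isIso_Q_map_iff_quasiIso _ _).1 ?_
  exact (NatIso.isIso_map_iff (DerivedCategory.quotientCompQhIso X.Modules) ((pC g).map ι)).1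
    ‹IsIso ((DCoh.pushKh g).map (q.map ι))›

/-- `F ⊗ g_*O` computes `Rg_* Lg^* F` -/
theorem exists_res_unitActC {F : CochainComplex X.Modules ℤ} (hF : DCoh.IsKFlat F)
    (hFq : ∀ i, Coh.IsQCoh (F.homology i)) :
    ∃ (JF : CochainComplex Y.Modules ℤ) (j : (qC g).obj F ⟶ JF), JF.IsKInjective ∧ QuasiIso j ∧
      QuasiIso (unitActC g F ≫ (pC g).map j) := by
  haveI := DerPush.hasRpush_sch g
  obtain ⟨IO, ι, hIO, hι⟩ := DerPush.exists_kInj_sch (sg (OO Y))
  haveI := quasiIso_push_sg g (QC.isQCoh_unit Y) ι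
  haveI := quasiIso_map_app_sch F hF ((pC g).map ι)
  haveI := quasiIso_map_app_sch ((qC g).obj F) (isKFlat_pullback g hF) ι
  obtain ⟨JF, s, hJF, hs⟩ := DerPush.exists_kInj_sch ((rhsF g IO).obj F)
  let j := inv (unitC ((qC g).obj F)) ≫ (DCoh.tensorCx.map ι).app ((qC g).obj F) ≫ s
  have hIq : ∀ i, Coh.IsQCoh (IO.homology i) := isQCoh_homology_of_qis ι fun i => by
    by_cases hi : i = 0
    · subst hi
      exact QC.isQCoh_of_iso (singleObjHomologySelfIso (ComplexShape.up ℤ) 0 (OO Y)).symm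
        (QC.isQCoh_unit Y)
    · exact DQCoh.isQCoh_of_isZero (isZero_single_obj_homology _ _ _ _ hi)
  haveI hG : QuasiIso ((theta g IO).app F ≫ (pC g).map s) := quasiIso_of_qisOn _ fun y => by
    obtain ⟨V, hV, hy⟩ := QC.exists_affine_mem y
    exact ⟨V, hy, (good_iff s).1 (good_of_affine g IO hV hIq hF hFq)⟩
  refine ⟨JF, j, hJF, inferInstance, ?_⟩
  have e : unitActC g F ≫ (pC g).map j =
      (sL F ((Scheme.Modules.pushforward g).obj (OO Y))).hom ≫ (DCoh.tensorCx.map (sgPush g (OO Y)).hom).app F ≫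
        (DCoh.tensorCx.map ((pC g).map ι)).app F ≫ (theta g IO).app F ≫ (pC g).map s := by
    rw [← theta_unitC g F, reassoc_of% (theta_natural_left g ι F)]
    simp only [Category.assoc, ← Functor.map_comp, j, IsIso.hom_inv_id_assoc]
  rw [e]
  haveI : IsIso ((DCoh.tensorCx.map (sgPush g (OO Y)).hom).app F) := inferInstance
  infer_instance

/-- a map into `g_*D` transposes to a quasi-isomorphism when its action is one -/
theorem quasiIso_flat'_of_psi {F : CochainComplex X.Modules ℤ} (hF : DCoh.IsKFlat F)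
    (hFq : ∀ i, Coh.IsQCoh (F.homology i)) {D : CochainComplex Y.Modules ℤ}
    (hDq : ∀ i, Coh.IsQCoh (D.homology i))
    (hD : ∀ (D₂ : CochainComplex Y.Modules ℤ) [D₂.IsKInjective] (s : D ⟶ D₂) [QuasiIso s],
      QuasiIso ((pC g).map s))
    (u : F ⟶ (pC g).obj D) (hu : QuasiIso (psi g u)) : QuasiIso (flat' g u) := by
  haveI := DerPush.hasRpush_sch g
  haveI := KFlat.hasLpull g
  haveI := hu
  obtain ⟨JF, j, hJF, hj, hJ⟩ := exists_res_unitActC g hF hFq
  obtain ⟨D₂, s, hD₂, hs⟩ := DerPush.exists_kInj_sch D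
  haveI := hD D₂ s
  let v := flat' g u
  obtain ⟨k, hk⟩ := KInj.Q_map_surjective (K := JF) (I := D₂)
    (inv (DerivedCategory.Q.map j) ≫ DerivedCategory.Q.map (v ≫ s))
  have hk' : DerivedCategory.Q.map (j ≫ k) = DerivedCategory.Q.map (v ≫ s) := by
    rw [Functor.map_comp, hk, IsIso.hom_inv_id_assoc]
  obtain ⟨H⟩ := KInj.nonempty_homotopy_of_Q_map_eq hk'
  let H' : Homotopy (j ≫ k) (v ≫ s) := Homotopy.equivSubZero.symm H
  have hpush : DerivedCategory.Q.map ((pC g).map (j ≫ k)) = DerivedCategory.Q.map ((pC g).map (v ≫ s)) := by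
    have h := HomotopyCategory.eq_of_homotopy _ _ ((Scheme.Modules.pushforward g).mapHomotopy H')
    have h' := congrArg (fun t => (DerivedCategory.quotientCompQhIso X.Modules).inv.app _ ≫
      DerivedCategory.Qh.map t ≫ (DerivedCategory.quotientCompQhIso X.Modules).hom.app _) h
    simpa using h'
  have e : DerivedCategory.Q.map ((unitActC g F ≫ (pC g).map j) ≫ (pC g).map k) =
      DerivedCategory.Q.map (psi g u ≫ (pC g).map s) := by
    rw [psi_eq_unitActC g v u (flat'_spec g u), Category.assoc, Category.assoc, ← Functor.map_comp,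
      ← Functor.map_comp, Functor.map_comp DerivedCategory.Q, hpush, ← Functor.map_comp]
  haveI : IsIso (DerivedCategory.Q.map (unitActC g F ≫ (pC g).map j) ≫ DerivedCategory.Q.map ((pC g).map k)) := by
    rw [← Functor.map_comp, e]; infer_instance
  haveI : IsIso (DerivedCategory.Q.map ((pC g).map k)) :=
    IsIso.of_isIso_comp_left (DerivedCategory.Q.map (unitActC g F ≫ (pC g).map j)) _
  haveI : IsIso ((DCoh.Rpush g).map (DerivedCategory.Q.map k)) := by
    have h := (DQPush.unitQ g).naturality k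
    haveI : IsIso ((DQPush.unitQ g).app JF) := (rpushIso g JF).isIso_hom
    haveI : IsIso ((DQPush.unitQ g).app D₂) := (rpushIso g D₂).isIso_hom
    haveI : IsIso (((Scheme.Modules.pushforward g).mapHomologicalComplex (ComplexShape.up ℤ) ⋙
        DerivedCategory.Q).map k ≫ (DQPush.unitQ g).app D₂) :=
      IsIso.comp_isIso' ‹IsIso (DerivedCategory.Q.map ((pC g).map k))› inferInstance
    exact IsIso.of_isIso_fac_left h.symm
  have hq1 : DCoh.IsQCohD (DerivedCategory.Q.obj JF) := fun i =>
    QC.isQCoh_of_iso ((DerivedCategory.homologyFunctor _ i).mapIso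
      (ProjForm.lpullIso g hF ≪≫ asIso (DerivedCategory.Q.map j)))
      (DQCoh.isQCohD_Lpull g _ (fun i => QC.isQCoh_of_iso (hdIso F i).symm (hFq i)) i)
  have hq2 : DCoh.IsQCohD (DerivedCategory.Q.obj D₂) := fun i =>
    QC.isQCoh_of_iso (hdIso D₂ i).symm (isQCoh_homology_of_qis s hDq i)
  haveI : IsIso (DerivedCategory.Q.map k) := DQPush.isIso_of_rpush g hq1 hq2 _ inferInstance
  haveI : IsIso (DerivedCategory.Q.map v ≫ DerivedCategory.Q.map s) := by
    rw [← Functor.map_comp, ← hk', Functor.map_comp]; infer_instance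
  exact (DerivedCategory.isIso_Q_map_iff_quasiIso _ _).1
    (IsIso.of_isIso_comp_right (DerivedCategory.Q.map v) (DerivedCategory.Q.map s))

end Affine

variable {X' S S' : Scheme.{u}} {g' : X' ⟶ X} {f : X ⟶ S} {g₀ : S' ⟶ S} {f' : X' ⟶ S'}

/-- the condition expressing that `π : N ⟶ g'_*J` is the base change of `N` -/
noncomputable def tMap (w : g' ≫ f = f' ≫ g₀) {P : CochainComplex S.Modules ℤ}
    (p : P ⟶ sg ((Scheme.Modules.pushforward g₀).obj (OO S'))) {N : CochainComplex X.Modules ℤ}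
    {J : CochainComplex X'.Modules ℤ} (π : N ⟶ (pC g').obj J) : (rhsF f N).obj P ⟶ (pC g').obj J :=
  (DCoh.tensorCx.obj N).map ((qC f).map p ≫ betaC w) ≫ (sR N _).inv ≫ psi g' π

/-- **base change along an affine morphism** -/
theorem quasiIso_baseChange [IsAffineHom g₀] [QuasiCompact f] [QuasiSeparated f] (H : IsPullback g' f' f g₀)
    {P : CochainComplex S.Modules ℤ} (hP : DCoh.IsKFlat P)
    (p : P ⟶ sg ((Scheme.Modules.pushforward g₀).obj (OO S'))) [QuasiIso p]
    {N I : CochainComplex X.Modules ℤ} [I.IsKInjective] (σ : N ⟶ I) [QuasiIso σ] [QuasiIso ((pC f).map σ)]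
    (hIq : ∀ i, Coh.IsQCoh (I.homology i))
    {J : CochainComplex X'.Modules ℤ} [J.IsKInjective] (hJq : ∀ i, Coh.IsQCoh (J.homology i))
    (π : N ⟶ (pC g').obj J) (hT : QuasiIso (tMap H.w p π))
    {F : CochainComplex S.Modules ℤ} (hF : DCoh.IsKFlat F) (q : F ⟶ (pC f).obj N) [QuasiIso q] :
    QuasiIso (flat' g₀ (q ≫ (pC f).map π ≫ bcX H.w J)) := by
  haveI : QuasiCompact f' := MorphismProperty.of_isPullback H ‹QuasiCompact f›
  haveI : QuasiSeparated f' := MorphismProperty.of_isPullback H ‹QuasiSeparated f›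
  haveI := DerPush.hasRpush_sch f
  haveI := DerPush.hasRpush_sch f'
  haveI := hT
  let G := (Scheme.Modules.pushforward g₀).obj (OO S')
  have hIq' : DCoh.IsQCohD (DerivedCategory.Q.obj I) := fun i => QC.isQCoh_of_iso (hdIso I i).symm (hIq i)
  have hJq' : DCoh.IsQCohD (DerivedCategory.Q.obj J) := fun i => QC.isQCoh_of_iso (hdIso J i).symm (hJq i)
  have hFq : ∀ i, Coh.IsQCoh (F.homology i) := isQCoh_homology_of_qis' (q ≫ (pC f).map σ) fun i =>
    QC.isQCoh_of_iso (hdIso _ i) (FlatBCD.isQCohD_push (f := f) I hIq' i)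
  have hPq : ∀ i, Coh.IsQCoh (P.homology i) := isQCoh_homology_of_qis' p fun i => by
    by_cases hi : i = 0
    · subst hi
      exact QC.isQCoh_of_iso (singleObjHomologySelfIso (ComplexShape.up ℤ) 0 G).symm
        (haveI : (OO S').IsQuasicoherent := QC.isQCoh_unit S'; QC.isQCoh_pushforward g₀)
    · exact DQCoh.isQCoh_of_isZero (isZero_single_obj_homology _ _ _ _ hi)
  refine quasiIso_flat'_of_psi g₀ hF hFq
    (fun i => QC.isQCoh_of_iso (hdIso _ i) (FlatBCD.isQCohD_push (f := f') J hJq' i))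
    (fun D₂ _ s _ => quasiIso_push_res f' g₀ J s) _ ?_
  -- resolutions
  obtain ⟨JP, sP, hJP, hsP⟩ := DerPush.exists_kInj_sch ((rhsF f I).obj P)
  obtain ⟨J₂, ψ, hJ₂, hψ⟩ := DerPush.exists_kInj_sch ((pC g').obj J)
  haveI := quasiIso_push_res g' f J ψ
  haveI := quasiIso_map_app_sch ((qC f).obj P) (isKFlat_pullback f hP) σ
  let T := tMap H.w p π
  let a := (DCoh.tensorCx.map σ).app ((qC f).obj P) ≫ sP
  obtain ⟨k, hk⟩ := KInj.Q_map_surjective (K := JP) (I := J₂)
    (inv (DerivedCategory.Q.map a) ≫ DerivedCategory.Q.map (T ≫ ψ))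
  have hk' : DerivedCategory.Q.map (a ≫ k) = DerivedCategory.Q.map (T ≫ ψ) := by
    rw [Functor.map_comp, hk, IsIso.hom_inv_id_assoc]
  haveI : QuasiIso k := by
    haveI : IsIso (DerivedCategory.Q.map a ≫ DerivedCategory.Q.map k) := by
      rw [← Functor.map_comp, hk']; infer_instance
    exact (DerivedCategory.isIso_Q_map_iff_quasiIso _ _).1
      (IsIso.of_isIso_comp_left (DerivedCategory.Q.map a) _)
  haveI := quasiIso_push_kInj f k
  obtain ⟨Hk⟩ := KInj.nonempty_homotopy_of_Q_map_eq hk'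
  let H' : Homotopy (a ≫ k) (T ≫ ψ) := Homotopy.equivSubZero.symm Hk
  have hpush : DerivedCategory.Q.map ((pC f).map (a ≫ k)) = DerivedCategory.Q.map ((pC f).map (T ≫ ψ)) := by
    have h := HomotopyCategory.eq_of_homotopy _ _ ((Scheme.Modules.pushforward f).mapHomotopy H')
    have h' := congrArg (fun t => (DerivedCategory.quotientCompQhIso S.Modules).inv.app _ ≫
      DerivedCategory.Qh.map t ≫ (DerivedCategory.quotientCompQhIso S.Modules).hom.app _) h
    simpa using h'
  haveI hG : QuasiIso ((theta f I).app P ≫ (pC f).map sP) := quasiIso_of_qisOn _ fun y => by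
    obtain ⟨V, hV, hy⟩ := QC.exists_affine_mem y
    exact ⟨V, hy, (good_iff sP).1 (good_of_affine f I hV hIq hP hPq)⟩
  haveI := quasiIso_map_app_sch P hP ((pC f).map σ)
  haveI hW : QuasiIso ((theta f N).app P ≫ (pC f).map T) := by
    have e : DerivedCategory.Q.map (((theta f N).app P ≫ (pC f).map T) ≫ (pC f).map ψ) =
        DerivedCategory.Q.map ((DCoh.tensorCx.map ((pC f).map σ)).app P ≫ ((theta f I).app P ≫ (pC f).map sP) ≫
          (pC f).map k) := by
      rw [Category.assoc, Category.assoc, ← Functor.map_comp, Functor.map_comp DerivedCategory.Q, ← hpush,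
        ← Functor.map_comp DerivedCategory.Q, reassoc_of% (theta_natural_left f σ P), ← Functor.map_comp,
        ← Functor.map_comp]
      simp only [a, Category.assoc]
    haveI : IsIso (DerivedCategory.Q.map ((theta f N).app P ≫ (pC f).map T) ≫
        DerivedCategory.Q.map ((pC f).map ψ)) := by
      rw [← Functor.map_comp, e]; infer_instance
    exact (DerivedCategory.isIso_Q_map_iff_quasiIso _ _).1
      (IsIso.of_isIso_comp_right (DerivedCategory.Q.map ((theta f N).app P ≫ (pC f).map T))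
        (DerivedCategory.Q.map ((pC f).map ψ)))
  haveI := quasiIso_map_app_sch P hP q
  haveI := quasiIso_tens_of_kFlat hF p
  haveI : ∀ n, IsIso ((bcX H.w J).f n) := fun n =>
    inferInstanceAs (IsIso ((FlatBCD.bcC H.w).hom.app (J.X n)))
  haveI : IsIso (bcX H.w J) := HomologicalComplex.Hom.isIso_of_components _
  -- the identity
  have key : (DCoh.tensorCx.obj F).map p ≫ (sR F G).inv ≫ psi g₀ (q ≫ (pC f).map π ≫ bcX H.w J) =
      (DCoh.tensorCx.map q).app P ≫ ((theta f N).app P ≫ (pC f).map T) ≫ bcX H.w J := by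
    have h1 : (sR F G).inv ≫ (TN G).map q = (DCoh.tensorCx.map q).app (sg G) ≫ (sR ((pC f).obj N) G).inv := by
      rw [Iso.inv_comp_eq, ← Category.assoc, Iso.eq_comp_inv]
      exact sR_natural q G
    rw [psi_comp, reassoc_of% h1, ← theta_psi H.w π, Iso.inv_hom_id_assoc,
      reassoc_of% ((DCoh.tensorCx.map q).naturality p)]
    refine congrArg (_ ≫ ·) ?_
    rw [Category.assoc]
    refine (congrArg (fun t => t) ?_)
    have hn := (theta f N).naturality p
    simp only [Functor.comp_map] at hn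
    rw [reassoc_of% hn]
    simp only [T, tMap, Functor.map_comp, Category.assoc]
  haveI : QuasiIso ((DCoh.tensorCx.obj F).map p ≫ (sR F G).inv ≫ psi g₀ (q ≫ (pC f).map π ≫ bcX H.w J)) := by
    rw [key]; infer_instance
  haveI : QuasiIso ((sR F G).inv ≫ psi g₀ (q ≫ (pC f).map π ≫ bcX H.w J)) :=
    quasiIso_of_comp_left ((DCoh.tensorCx.obj F).map p) _
  exact quasiIso_of_comp_left (sR F G).inv _

end Groth.Agent.TorBC
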