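import Groth.Agent.TorBC.Main
import Groth.Agent.FlatBCD.Main

/-!
The canonical base change morphism at representatives, for an arbitrary square.
-/

set_option autoImplicit false
set_option backward.isDefEq.respectTransparency false
set_option backward.isDefEq.respectTransparency.types false
set_option linter.style.haveILetI false
set_option linter.unusedSectionVars false

universe u

open CategoryTheory Limits AlgebraicGeometry HomologicalComplex

attribute [local instance] HasDerivedCategory.standard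

namespace Groth.Agent.TorBC

open Groth.Agent.KFlat Groth.Agent.ProjForm Groth.Agent.FlatBCD

variable {X S X' S' : Scheme.{u}} {f : X ⟶ S} {g₀ : S' ⟶ S} {g' : X' ⟶ X} {f' : X' ⟶ S'}
  [DCoh.HasRpush f] [DCoh.HasRpush g₀] [DCoh.HasLpull g₀] [DCoh.HasRpush f'] [DCoh.HasRpush g'] [DCoh.HasLpull g']

/-- the canonical base change morphism is the transposed map on representatives -/
theorem isIso_baseChangeApp_data (w : g' ≫ f = f' ≫ g₀)
    (e : DCoh.Rpush g' ⋙ DCoh.Rpush f ≅ DCoh.Rpush f' ⋙ DCoh.Rpush g₀)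
    (he : tau' (f := f) (g' := g') ≫ Functor.whiskerLeft DerivedCategory.Qh e.hom = tau'' w)
    {L N : CochainComplex X.Modules ℤ} (hL : DCoh.IsKFlat L) (l : L ⟶ N) [QuasiIso l]
    {J : CochainComplex X'.Modules ℤ} [J.IsKInjective] (π : N ⟶ (pC g').obj J) [QuasiIso (flat' g' (l ≫ π))]
    [IsIso ((DerPush.rpushUnit f).app ((HomotopyCategory.quotient X.Modules (ComplexShape.up ℤ)).obj N))]
    {F : CochainComplex S.Modules ℤ} (hF : DCoh.IsKFlat F) (r : F ⟶ (pC f).obj N) [QuasiIso r]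
    [QuasiIso (flat' g₀ (r ≫ (pC f).map π ≫ bcX w J))] :
    IsIso (DCoh.baseChangeApp (adjD g₀) (adjD g') e
      (DerivedCategory.Qh.obj ((HomotopyCategory.quotient X.Modules (ComplexShape.up ℤ)).obj N))) := by
  let qX := HomotopyCategory.quotient X.Modules (ComplexShape.up ℤ)
  let qS := HomotopyCategory.quotient S.Modules (ComplexShape.up ℤ)
  let q' := HomotopyCategory.quotient X'.Modules (ComplexShape.up ℤ)
  let qS' := HomotopyCategory.quotient S'.Modules (ComplexShape.up ℤ)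
  let m0 : qX.obj N ⟶ (pH g').obj (q'.obj J) := qX.map π
  let x : (DCoh.Lpull g').obj (DerivedCategory.Qh.obj (qX.obj N)) ⟶ DerivedCategory.Qh.obj (q'.obj J) :=
    (FlatBCD.lpullCounit g').app (qX.obj N) ≫ DerivedCategory.Qh.map (q'.map (flat' g' π))
  let m := (pH f).map m0 ≫ (bcK w).app (q'.obj J)
  haveI : IsIso ((DerPush.rpushUnit f').app (q'.obj J)) := DerPush.isIso_rpushUnit_app f' (I := q'.obj J) ‹_›
  -- `x` is an isomorphism
  haveI : IsIso x := by
    haveI : IsIso ((FlatBCD.lpullCounit g').app (qX.obj L)) :=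
      KFlat.isIso_app_of_kFlat (KFlat.kFlatAcyclic_pullback g') (DCoh.Lpull g') (FlatBCD.lpullCounit g') hL
    haveI : IsIso (DerivedCategory.Qh.map (qX.map l)) :=
      (NatIso.isIso_map_iff (DerivedCategory.quotientCompQhIso X.Modules) l).2 inferInstance
    haveI : IsIso (DerivedCategory.Qh.map (q'.map (flat' g' (l ≫ π)))) :=
      (NatIso.isIso_map_iff (DerivedCategory.quotientCompQhIso X'.Modules) (flat' g' (l ≫ π))).2 inferInstance
    have hx : (DCoh.Lpull g').map (DerivedCategory.Qh.map (qX.map l)) ≫ x =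
        (FlatBCD.lpullCounit g').app (qX.obj L) ≫ DerivedCategory.Qh.map (q'.map (flat' g' (l ≫ π))) := by
      rw [flat'_naturality_left, Functor.map_comp q', Functor.map_comp DerivedCategory.Qh]
      exact (FlatBCD.lpullCounit g').naturality_assoc (qX.map l) _
    haveI : IsIso ((DCoh.Lpull g').map (DerivedCategory.Qh.map (qX.map l)) ≫ x) := by
      rw [hx]; exact IsIso.comp_isIso' ‹_› ‹_›
    exact IsIso.of_isIso_comp_left ((DCoh.Lpull g').map (DerivedCategory.Qh.map (qX.map l))) x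
  have hm0 : (adjK g').homEquiv (qX.obj N) (q'.obj J) (q'.map (flat' g' π)) = m0 := by
    rw [Adjunction.homEquiv_unit]
    refine (qX.map_comp _ _).symm.trans (congrArg qX.map ?_)
    exact ((KInj.mapHomologicalComplexAdj (Scheme.Modules.pullbackPushforwardAdjunction g')
      (ComplexShape.up ℤ)).homEquiv_unit _ _ _).symm.trans (Equiv.apply_symm_apply _ _)
  -- the unit
  have h1 : (adjD g').unit.app (DerivedCategory.Qh.obj (qX.obj N)) ≫ (DCoh.Rpush g').map x =
      DerivedCategory.Qh.map m0 ≫ (DerPush.rpushUnit g').app (q'.obj J) := by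
    rw [Functor.map_comp, ← Category.assoc, adjD_unit, Category.assoc]
    erw [← (DerPush.rpushUnit g').naturality (q'.map (flat' g' π))]
    rw [← Category.assoc]
    congr 1
    exact (DerivedCategory.Qh.map_comp _ _).symm.trans
      (congrArg _ (((adjK g').homEquiv_unit _ _ _).symm.trans hm0))
  have h2 : (DerPush.rpushUnit f).app (qX.obj N) ≫
      (adjD g₀).homEquiv _ _ (DCoh.baseChangeApp (adjD g₀) (adjD g') e (DerivedCategory.Qh.obj (qX.obj N)) ≫
        (DCoh.Rpush f').map x) =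
      DerivedCategory.Qh.map m ≫ (DerPush.rpushUnit g₀).app ((pH f').obj (q'.obj J)) ≫
        (DCoh.Rpush g₀).map ((DerPush.rpushUnit f').app (q'.obj J)) := by
    rw [Adjunction.homEquiv_naturality_right, DCoh.baseChangeApp]
    erw [Equiv.apply_symm_apply, Category.assoc]
    erw [← e.hom.naturality x]
    rw [Functor.comp_map, ← (DCoh.Rpush f).map_comp_assoc, h1, (DCoh.Rpush f).map_comp, Category.assoc]
    erw [← (DerPush.rpushUnit f).naturality_assoc m0]
    have hJe := congr_app he (q'.obj J)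
    rw [NatTrans.comp_app, Functor.whiskerLeft_app, tau'_app, tau''_app, Category.assoc] at hJe
    erw [hJe]
    exact (Category.assoc _ _ _).symm.trans (congrArg (fun k => k ≫ (DerPush.rpushUnit g₀).app ((pH f').obj (q'.obj J)) ≫
      (DCoh.Rpush g₀).map ((DerPush.rpushUnit f').app (q'.obj J)))
      (DerivedCategory.Qh.map_comp ((pH f).map m0) ((bcK w).app (q'.obj J)))).symm
  have hm : ((adjK g₀).homEquiv _ ((pH f').obj (q'.obj J))).symm m =
      qS'.map (flat' g₀ ((pC f).map π ≫ bcX w J)) := by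
    have hm' : m = qS.map ((pC f).map π ≫ bcX w J) := (qS.map_comp _ _).symm
    rw [hm', Adjunction.homEquiv_counit]
    refine (qS'.map_comp _ _).symm.trans (congrArg qS'.map ?_)
    exact ((KInj.mapHomologicalComplexAdj (Scheme.Modules.pullbackPushforwardAdjunction g₀)
      (ComplexShape.up ℤ)).homEquiv_counit _ _ _).symm
  have h3 : (DCoh.Lpull g₀).map ((DerPush.rpushUnit f).app (qX.obj N)) ≫
      DCoh.baseChangeApp (adjD g₀) (adjD g') e (DerivedCategory.Qh.obj (qX.obj N)) ≫ (DCoh.Rpush f').map x =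
      (FlatBCD.lpullCounit g₀).app _ ≫ DerivedCategory.Qh.map (qS'.map (flat' g₀ ((pC f).map π ≫ bcX w J))) ≫
        (DerPush.rpushUnit f').app (q'.obj J) := by
    apply ((adjD g₀).homEquiv _ _).injective
    rw [Adjunction.homEquiv_naturality_left, h2]
    have h := adjD_symm g₀ m
    rw [Equiv.symm_apply_eq] at h
    rw [← Category.assoc, h, ← hm, ← Adjunction.homEquiv_naturality_right]
    rw [Category.assoc]
    rfl
  -- the resolution of the direct image
  haveI : IsIso (DerivedCategory.Qh.map (qS.map r)) :=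
    (NatIso.isIso_map_iff (DerivedCategory.quotientCompQhIso S.Modules) r).2 inferInstance
  haveI : IsIso ((FlatBCD.lpullCounit g₀).app (qS.obj F)) :=
    KFlat.isIso_app_of_kFlat (KFlat.kFlatAcyclic_pullback g₀) (DCoh.Lpull g₀) (FlatBCD.lpullCounit g₀) hF
  haveI : IsIso (DerivedCategory.Qh.map (qS'.map (flat' g₀ (r ≫ (pC f).map π ≫ bcX w J)))) :=
    (NatIso.isIso_map_iff (DerivedCategory.quotientCompQhIso S'.Modules) _).2 inferInstance
  have h4 : (DCoh.Lpull g₀).map (DerivedCategory.Qh.map (qS.map r)) ≫ (FlatBCD.lpullCounit g₀).app _ ≫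
      DerivedCategory.Qh.map (qS'.map (flat' g₀ ((pC f).map π ≫ bcX w J))) =
      (FlatBCD.lpullCounit g₀).app (qS.obj F) ≫
        DerivedCategory.Qh.map (qS'.map (flat' g₀ (r ≫ (pC f).map π ≫ bcX w J))) := by
    rw [flat'_naturality_left g₀ r, Functor.map_comp qS', Functor.map_comp DerivedCategory.Qh]
    exact (FlatBCD.lpullCounit g₀).naturality_assoc (qS.map r) _
  haveI : IsIso ((DCoh.Lpull g₀).map (DerivedCategory.Qh.map (qS.map r)) ≫ (FlatBCD.lpullCounit g₀).app _ ≫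
      DerivedCategory.Qh.map (qS'.map (flat' g₀ ((pC f).map π ≫ bcX w J)))) := by
    rw [h4]; exact IsIso.comp_isIso' ‹_› ‹_›
  haveI hr : IsIso ((DCoh.Lpull g₀).map (DerivedCategory.Qh.map (qS.map r))) := inferInstance
  haveI : IsIso ((FlatBCD.lpullCounit g₀).app _ ≫
      DerivedCategory.Qh.map (qS'.map (flat' g₀ ((pC f).map π ≫ bcX w J)))) :=
    @IsIso.of_isIso_comp_left _ _ _ _ _ ((DCoh.Lpull g₀).map (DerivedCategory.Qh.map (qS.map r))) _ hr ‹_›
  haveI : IsIso ((DCoh.Lpull g₀).map ((DerPush.rpushUnit f).app (qX.obj N))) := inferInstance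
  haveI : IsIso (DCoh.baseChangeApp (adjD g₀) (adjD g') e (DerivedCategory.Qh.obj (qX.obj N)) ≫
      (DCoh.Rpush f').map x) := by
    refine @IsIso.of_isIso_comp_left _ _ _ _ _ ((DCoh.Lpull g₀).map ((DerPush.rpushUnit f).app (qX.obj N))) _ ‹_› ?_
    rw [h3, ← Category.assoc]
    infer_instance
  exact IsIso.of_isIso_comp_right _ ((DCoh.Rpush f').map x)

/-- base change by the canonical morphism, from the local hypothesis -/
theorem exists_isIso_baseChangeApp_of_local [QuasiCompact f] [QuasiSeparated f] (H : IsPullback g' f' f g₀)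
    (adjg : DCoh.Lpull g₀ ⊣ DCoh.Rpush g₀) (adjg' : DCoh.Lpull g' ⊣ DCoh.Rpush g') (C : DCoh.D X → Prop)
    (hC : ∀ E, C E → DCoh.IsQCohD E)
    (hloc : ∀ (E : DCoh.D X), C E → ∀ (L : CochainComplex X.Modules ℤ), DCoh.IsKFlat L →
      (∀ i, Coh.IsQCoh (L.homology i)) → Nonempty (DerivedCategory.Q.obj L ≅ E) →
      ∀ {N : CochainComplex X.Modules ℤ} (l : L ⟶ N) [QuasiIso l]
        {J : CochainComplex X'.Modules ℤ} [J.IsKInjective] (π : N ⟶ (pC g').obj J) [QuasiIso (flat' g' (l ≫ π))]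
        {Vs Xs Ws Ys : Scheme.{u}} (jV : Vs ⟶ S) (jX : Xs ⟶ X) (jW : Ws ⟶ S') (jY : Ys ⟶ X')
        [IsOpenImmersion jV] [IsOpenImmersion jX] [IsOpenImmersion jW] [IsOpenImmersion jY]
        (fV : Xs ⟶ Vs) (gW : Ws ⟶ Vs) (gY : Ys ⟶ Xs) (fY : Ys ⟶ Ws) [IsAffine Vs] [IsAffine Ws]
        [QuasiCompact fV] [QuasiSeparated fV]
        (HW : IsPullback gY fY fV gW) (_ : fV ≫ jV = jX ≫ f) (wg' : gY ≫ jX = jY ≫ g')
        (_ : gW ≫ jV = jW ≫ g₀) (_ : jX.opensRange = f ⁻¹ᵁ jV.opensRange),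
        ∃ (P : CochainComplex Vs.Modules ℤ) (p : P ⟶ sg ((Scheme.Modules.pushforward gW).obj (OO Ws))),
          DCoh.IsKFlat P ∧ QuasiIso p ∧ QuasiIso (tMap HW.w p (resC wg' π))) :
    ∃ e : DCoh.Rpush g' ⋙ DCoh.Rpush f ≅ DCoh.Rpush f' ⋙ DCoh.Rpush g₀,
      ∀ E : DCoh.D X, C E → IsIso (DCoh.baseChangeApp adjg adjg' e E) := by
  obtain ⟨e, he⟩ := exists_iso (f := f) (g₀ := g₀) H.w
  refine ⟨e, fun E hCE => ?_⟩
  have hE := hC E hCE
  obtain ⟨L, hL, -, ⟨ε⟩⟩ := KFlat.exists_isKFlat_rep E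
  have hLq : ∀ i, Coh.IsQCoh (L.homology i) := fun i =>
    QC.isQCoh_of_iso ((DerivedCategory.homologyFunctor _ i).mapIso ε.symm ≪≫ hdIso L i) (hE i)
  obtain ⟨I, σ₀, hI, hσ₀⟩ := DerPush.exists_kInj_sch L
  obtain ⟨J, t, hJ, ht⟩ := DerPush.exists_kInj_sch ((qC g').obj L)
  let β : L ⟶ (pC g').obj J :=
    (KInj.mapHomologicalComplexAdj (Scheme.Modules.pullbackPushforwardAdjunction g') (ComplexShape.up ℤ)).homEquiv L J t
  have hβ : flat' g' β = t := Equiv.symm_apply_apply _ _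
  obtain ⟨J₂, ψ, hJ₂, hψ⟩ := DerPush.exists_kInj_sch ((pC g').obj J)
  obtain ⟨k, hk⟩ := KInj.Q_map_surjective (K := I) (I := J₂)
    (inv (DerivedCategory.Q.map σ₀) ≫ DerivedCategory.Q.map (β ≫ ψ))
  have hk' : DerivedCategory.Q.map (β ≫ ψ) = DerivedCategory.Q.map (σ₀ ≫ k) := by
    rw [Functor.map_comp _ σ₀, hk, IsIso.hom_inv_id_assoc]
  obtain ⟨Hk⟩ := KInj.nonempty_homotopy_of_Q_map_eq hk'
  obtain ⟨l, hl₁, hl₂⟩ := exists_hp_lift k ψ σ₀ β (Homotopy.equivSubZero.symm Hk)
  haveI := quasiIso_hpσ k ψ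
  haveI hfσ : QuasiIso ((pC f).map (hpσ k ψ)) :=
    quasiIso_map_hpσ k ψ (Scheme.Modules.pushforward f) (quasiIso_push_res g' f J ψ)
  haveI : QuasiIso l := by
    haveI : QuasiIso (l ≫ hpσ k ψ) := by rw [hl₁]; infer_instance
    exact quasiIso_of_comp_right l (hpσ k ψ)
  haveI : QuasiIso (flat' g' (l ≫ hpπ k ψ)) := by rw [hl₂, hβ]; infer_instance
  let F := (resF S).obj ((pC f).obj (hp k ψ))
  let q := (resψ S).app ((pC f).obj (hp k ψ))
  have hF : DCoh.IsKFlat F := isKFlat_resF _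
  have hIq : ∀ i, Coh.IsQCoh (I.homology i) := isQCoh_homology_of_qis σ₀ hLq
  have hJq : ∀ i, Coh.IsQCoh (J.homology i) :=
    isQCoh_homology_of_qis t (isQCoh_homology_qC g' hL hLq)
  haveI hΦ : QuasiIso (flat' g₀ (q ≫ (pC f).map (hpπ k ψ) ≫ bcX H.w J)) :=
    quasiIso_baseChange_local H (hpσ k ψ) hIq hJq (hpπ k ψ) (hloc E hCE L hL hLq ⟨ε⟩ l (hpπ k ψ)) hF q
  let qX := HomotopyCategory.quotient X.Modules (ComplexShape.up ℤ)
  haveI : IsIso ((DerPush.rpushUnit f).app (qX.obj (hp k ψ))) := by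
    haveI : IsIso ((DerPush.rpushUnit f).app (qX.obj I)) := DerPush.isIso_rpushUnit_app f (I := qX.obj I) ‹_›
    haveI : IsIso (DerivedCategory.Qh.map (qX.map (hpσ k ψ))) :=
      (NatIso.isIso_map_iff (DerivedCategory.quotientCompQhIso X.Modules) (hpσ k ψ)).2 inferInstance
    haveI hp' : IsIso ((DCoh.pushKh f).map (qX.map (hpσ k ψ))) :=
      (NatIso.isIso_map_iff (DerivedCategory.quotientCompQhIso S.Modules) ((pC f).map (hpσ k ψ))).2 inferInstance
    have h := (DerPush.rpushUnit f).naturality (qX.map (hpσ k ψ))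
    haveI : IsIso ((DCoh.pushKh f).map (qX.map (hpσ k ψ)) ≫ (DerPush.rpushUnit f).app (qX.obj I)) := inferInstance
    haveI : IsIso ((DerivedCategory.Qh ⋙ DCoh.Rpush f).map (qX.map (hpσ k ψ))) :=
      inferInstanceAs (IsIso ((DCoh.Rpush f).map (DerivedCategory.Qh.map (qX.map (hpσ k ψ)))))
    exact IsIso.of_isIso_fac_right h.symm
  haveI := isIso_baseChangeApp_data H.w e he hL l (hpπ k ψ) hF q
  haveI : IsIso (DCoh.baseChangeApp adjg adjg' e (DerivedCategory.Qh.obj (qX.obj (hp k ψ)))) := by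
    rw [baseChangeApp_change adjg (adjD g₀) adjg' (adjD g') e]
    infer_instance
  let ε' : E ≅ DerivedCategory.Qh.obj (qX.obj (hp k ψ)) :=
    ε.symm ≪≫ asIso (DerivedCategory.Q.map l) ≪≫
      ((DerivedCategory.quotientCompQhIso X.Modules).app (hp k ψ)).symm
  haveI : IsIso (DCoh.baseChangeApp adjg adjg' e E ≫ (DCoh.Rpush f').map ((DCoh.Lpull g').map ε'.hom)) := by
    rw [baseChangeApp_naturality adjg adjg' e ε'.hom]
    infer_instance
  exact IsIso.of_isIso_comp_right _ ((DCoh.Rpush f').map ((DCoh.Lpull g').map ε'.hom))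

end Groth.Agent.TorBC
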