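import Groth.Agent.TorBC.Core
import Groth.Agent.TildeKFlat.Main
import Groth.Agent.DRingKP.Tor
import Groth.Agent.QC.Sections
import Mathlib.RingTheory.Flat.Localization

/-!
The inverse image of a projective resolution, for Tor independent modules.
-/

set_option autoImplicit false
set_option backward.isDefEq.respectTransparency false
set_option backward.isDefEq.respectTransparency.types false
set_option linter.style.haveILetI false
set_option linter.unusedSectionVars false

universe u

open CategoryTheory Limits AlgebraicGeometry HomologicalComplex MonoidalCategory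
open scoped TensorProduct

attribute [local instance] HasDerivedCategory.standard

namespace Groth.Agent.TorBC

open Groth.Agent.KFlat Groth.Agent.ProjForm

section Algebra

variable {A B : Type u} [CommRing A] [CommRing B] (φ : A →+* B)

/-- extending a resolution when the higher Tor vanish -/
theorem quasiIso_extend_res (N : ModuleCat.{u} A) (R : ProjectiveResolution N)
    (h : ∀ i, 0 < i → Subsingleton (@DRing.Tor A _ i N B _ _ _ φ.toModule)) :
    QuasiIso (((ModuleCat.extendScalars.{u, u, u} φ).mapHomologicalComplex (ComplexShape.up ℤ)).map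
      (DRingKP.resToSingle R)) := by
  letI : Module A B := φ.toModule
  let F := ModuleCat.extendScalars.{u, u, u} φ
  let K := R.cochainComplex
  let π := DRingKP.resToSingle R
  haveI : F.IsLeftAdjoint := (ModuleCat.extendRestrictScalarsAdj φ).isLeftAdjoint
  haveI : PreservesColimitsOfSize.{0, 0} F := (ModuleCat.extendRestrictScalarsAdj φ).leftAdjoint_preservesColimits
  have hb : ∀ i : ℤ, 0 < i → IsZero (K.X i) := (CochainComplex.isStrictlyLE_iff _ 0).1 inferInstance
  constructor
  intro i
  rcases lt_trichotomy i 0 with hi | rfl | hi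
  · have hT : IsZero ((((F.mapHomologicalComplex (ComplexShape.up ℤ)).obj K)).homology i) := by
      obtain ⟨p, rfl⟩ : ∃ p : ℕ, i = -((p + 1 : ℕ) : ℤ) := ⟨(-i - 1).toNat, by lia⟩
      let RB := projectiveResolution (ModuleCat.of A B)
      haveI := h (p + 1) (by lia)
      have h1 : IsZero (((CategoryTheory.Tor (ModuleCat.{u} A) (p + 1)).obj N).obj (ModuleCat.of A B)) :=
        ModuleCat.isZero_of_subsingleton _
      rw [DRingKP.isZero_tor_iff _ _ RB, ← DRingKP.isZero_balance R RB,
        DRingKP.isZero_tR_iff_tensorLeft] at h1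
      rw [← HomologicalComplex.exactAt_iff_isZero_homology, exactAt_iff] at h1 ⊢
      let e : tensorLeft (ModuleCat.of A B) ≅ F ⋙ ModuleCat.restrictScalars φ :=
        NatIso.ofComponents (fun M => Iso.refl _) (fun g => by
          apply ModuleCat.MonoidalCategory.tensor_ext
          intro a b
          rfl)
      exact (ShortComplex.exact_map_iff_of_faithful _ (ModuleCat.restrictScalars φ)).1
        ((ShortComplex.exact_iff_of_iso ((K.sc _).mapNatIso e)).1 h1)
    refine (quasiIsoAt_iff_exactAt _ i ?_).2 ?_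
    · exact (exactAt_iff_isZero_homology _ _).2 hT
    · exact (exactAt_iff_isZero_homology _ _).2 (ShortComplex.isZero_homology_of_isZero_X₂ _
        (F.map_isZero (isZero_single_obj_X _ _ _ _ hi.ne)))
  · rw [quasiIsoAt_iff' _ (-1) 0 1 (by simp) (by simp)]
    have hq : QuasiIsoAt π 0 := inferInstance
    rw [quasiIsoAt_iff' _ (-1) 0 1 (by simp) (by simp)] at hq
    rw [ShortComplex.quasiIso_iff_of_zeros'] at hq ⊢
    rotate_left
    · exact (F.map_isZero (hb 1 one_pos)).eq_of_tgt _ _
    · exact (F.map_isZero (isZero_single_obj_X (ComplexShape.up ℤ) 0 N (-1) (by lia))).eq_of_src _ _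
    · exact (F.map_isZero (isZero_single_obj_X (ComplexShape.up ℤ) 0 N 1 (by lia))).eq_of_tgt _ _
    · exact (hb 1 one_pos).eq_of_tgt _ _
    · exact (isZero_single_obj_X (ComplexShape.up ℤ) 0 N (-1) (by lia)).eq_of_src _ _
    · exact (isZero_single_obj_X (ComplexShape.up ℤ) 0 N 1 (by lia)).eq_of_tgt _ _
    obtain ⟨h1, h2⟩ := hq
    haveI := h2
    haveI : Epi (π.f 0) := h2
    exact ⟨h1.map_of_epi_of_preservesCokernel F ‹_› inferInstance, F.map_epi (π.f 0)⟩
  · refine (quasiIsoAt_iff_exactAt _ i ?_).2 ?_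
    · exact (exactAt_iff_isZero_homology _ _).2 (ShortComplex.isZero_homology_of_isZero_X₂ _ (F.map_isZero (hb i hi)))
    · exact (exactAt_iff_isZero_homology _ _).2 (ShortComplex.isZero_homology_of_isZero_X₂ _
        (F.map_isZero (isZero_single_obj_X _ _ _ _ hi.ne')))

end Algebra

variable {R : CommRingCat.{u}} {X : Scheme.{u}} (f : X ⟶ Spec R)

/-- `R → Γ(X, V)` -/
noncomputable def sectHom (V : X.Opens) : R →+* Γ(X, V) :=
  ((Scheme.ΓSpecIso R).inv ≫ f.appLE ⊤ V le_top).hom

lemma stalkMap_toStalkRing {V : X.Opens} {x : X} (hx : x ∈ V) :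
    (f.stalkMap x).hom.comp (TildeKFlat.toStalkRing (f.base x)) =
      (X.presheaf.germ V x hx).hom.comp (sectHom f V) := by
  refine RingHom.ext fun r => ?_
  change f.stalkMap x ((Spec R).presheaf.germ ⊤ (f.base x) trivial ((Scheme.ΓSpecIso R).inv r)) = _
  rw [Scheme.Hom.germ_stalkMap_apply]
  refine (X.presheaf.germ_res_apply (homOfLE (show V ≤ f ⁻¹ᵁ ⊤ from le_top)) x hx _).symm.trans ?_
  rfl

/-- stalks of inverse images of `M~` -/
noncomputable def stalkPullTildeIso {V : X.Opens} {x : X} (hx : x ∈ V) :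
    tilde.functor R ⋙ Scheme.Modules.pullback f ⋙ DerSch.stalkFunctor X x ≅
      ModuleCat.extendScalars.{u, u, u} (sectHom f V) ⋙ ModuleCat.extendScalars.{u, u, u} (X.presheaf.germ V x hx).hom :=
  Functor.isoWhiskerLeft (tilde.functor R) (KFlat.pullStalkIso f x) ≪≫ (Functor.associator _ _ _).symm ≪≫
    Functor.isoWhiskerRight (asIso (TildeKFlat.cmp (f.base x))).symm _ ≪≫
    (ModuleCat.extendScalarsComp (TildeKFlat.toStalkRing (f.base x)) (f.stalkMap x).hom).symm ≪≫
    eqToIso (congrArg ModuleCat.extendScalars.{u, u, u} (stalkMap_toStalkRing f hx)) ≪≫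
    ModuleCat.extendScalarsComp (sectHom f V) (X.presheaf.germ V x hx).hom

/-- **`f^*` of a resolution** resolves `f^* N~` for Tor independent `N` -/
theorem quasiIso_pullback_tilde (N : ModuleCat.{u} R) (Q : ProjectiveResolution N)
    (htor : ∀ (V : X.Opens), IsAffineOpen V → ∀ i, 0 < i →
      Subsingleton (@DRing.Tor R _ i N Γ(X, V) _ _ _ (sectHom f V).toModule)) :
    QuasiIso ((qC f).map (((tilde.functor R).mapHomologicalComplex (ComplexShape.up ℤ)).map
      (DRingKP.resToSingle Q))) := by
  refine quasiIso_of_qisOn _ fun x => ⟨⊤, trivial, ?_⟩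
  intro y _
  obtain ⟨V, hV, hy, -⟩ := exists_isAffineOpen_mem_and_subset (X := X) (x := y) (U := ⊤) trivial
  let F₁ := ModuleCat.extendScalars.{u, u, u} (sectHom f V)
  let γ := (X.presheaf.germ V y hy).hom
  let F₂ := ModuleCat.extendScalars.{u, u, u} γ
  haveI h₁ : QuasiIso ((F₁.mapHomologicalComplex (ComplexShape.up ℤ)).map (DRingKP.resToSingle Q)) :=
    quasiIso_extend_res (sectHom f V) N Q (htor V hV)
  haveI : F₂.IsLeftAdjoint := (ModuleCat.extendRestrictScalarsAdj γ).isLeftAdjoint
  haveI : F₂.PreservesHomology := by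
    letI : Algebra Γ(X, V) (X.presheaf.stalk y) := γ.toAlgebra
    haveI : IsLocalization.AtPrime (X.presheaf.stalk y) (hV.primeIdealOf ⟨y, hy⟩).asIdeal :=
      hV.isLocalization_stalk ⟨y, hy⟩
    haveI : Module.Flat Γ(X, V) (X.presheaf.stalk y) :=
      IsLocalization.flat _ (hV.primeIdealOf ⟨y, hy⟩).asIdeal.primeCompl
    haveI := ModuleCat.preservesFiniteLimits_extendScalars_of_flat (f := γ) (RingHom.flat_algebraMap_iff.2 ‹_›)
    haveI : PreservesColimitsOfSize.{0, 0} F₂ := (ModuleCat.extendRestrictScalarsAdj γ).leftAdjoint_preservesColimits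
    infer_instance
  let e := stalkPullTildeIso f hy
  let E := NatIso.mapHomologicalComplex e (ComplexShape.up ℤ)
  have hn := E.hom.naturality (DRingKP.resToSingle Q)
  haveI h₂ : QuasiIso (((F₁ ⋙ F₂).mapHomologicalComplex (ComplexShape.up ℤ)).map (DRingKP.resToSingle Q)) :=
    (inferInstance : QuasiIso ((F₂.mapHomologicalComplex (ComplexShape.up ℤ)).map
      ((F₁.mapHomologicalComplex (ComplexShape.up ℤ)).map (DRingKP.resToSingle Q))))
  haveI : QuasiIso (E.hom.app Q.cochainComplex ≫ ((F₁ ⋙ F₂).mapHomologicalComplex (ComplexShape.up ℤ)).map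
      (DRingKP.resToSingle Q)) := inferInstance
  rw [← hn] at this
  exact quasiIso_of_comp_right (((tilde.functor R ⋙ Scheme.Modules.pullback f ⋙
    DerSch.stalkFunctor X y).mapHomologicalComplex (ComplexShape.up ℤ)).map (DRingKP.resToSingle Q)) (E.hom.app _)

end Groth.Agent.TorBC
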