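import Groth.Agent.TorBC.Main
import Groth.Agent.TorBC.TorPull
import Groth.Agent.RelPCS.FlatBase
import Groth.Agent.QC.AffineSpec
import Mathlib.AlgebraicGeometry.Morphisms.Affine

/-!
The local hypothesis of base change for Tor independent squares.
-/

set_option autoImplicit false
set_option backward.isDefEq.respectTransparency false
set_option backward.isDefEq.respectTransparency.types false
set_option linter.style.haveILetI false
set_option linter.unusedSectionVars false

universe u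

open CategoryTheory Limits AlgebraicGeometry HomologicalComplex

attribute [local instance] HasDerivedCategory.standard

namespace Groth.Agent.TorBC

open Groth.Agent.KFlat Groth.Agent.ProjForm

variable {X S S' X' : Scheme.{u}} {f : X ⟶ S} {g₀ : S' ⟶ S} {g' : X' ⟶ X} {f' : X' ⟶ S'}

/-- the local hypothesis when `f^*` keeps the resolution exact -/
theorem quasiIso_tMap_of_qiso [IsAffineHom g₀] (H : IsPullback g' f' f g₀) {P : CochainComplex S.Modules ℤ}
    (p : P ⟶ sg ((Scheme.Modules.pushforward g₀).obj (OO S'))) (hp : QuasiIso ((qC f).map p))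
    {L : CochainComplex X.Modules ℤ} (hL : DCoh.IsKFlat L) (hLq : ∀ i, Coh.IsQCoh (L.homology i))
    {J : CochainComplex X'.Modules ℤ} [J.IsKInjective] (π : L ⟶ (pC g').obj J) [QuasiIso (flat' g' π)] :
    QuasiIso (tMap H.w p π) := by
  haveI : IsAffineHom g' := MorphismProperty.of_isPullback H.flip ‹IsAffineHom g₀›
  obtain ⟨J₁, t₁, hJ₁, ht₁, h₁⟩ := exists_res_unitActC g' hL hLq
  let t := flat' g' π
  obtain ⟨k, hk⟩ := KInj.Q_map_surjective (K := J₁) (I := J)
    (inv (DerivedCategory.Q.map t₁) ≫ DerivedCategory.Q.map t)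
  have hk' : DerivedCategory.Q.map (t₁ ≫ k) = DerivedCategory.Q.map t := by
    rw [Functor.map_comp, hk, IsIso.hom_inv_id_assoc]
  haveI : QuasiIso k := by
    haveI : IsIso (DerivedCategory.Q.map t₁ ≫ DerivedCategory.Q.map k) := by
      rw [← Functor.map_comp, hk']; infer_instance
    exact (DerivedCategory.isIso_Q_map_iff_quasiIso _ _).1
      (IsIso.of_isIso_comp_left (DerivedCategory.Q.map t₁) _)
  haveI := quasiIso_push_kInj g' k
  haveI := h₁
  haveI h₂ : QuasiIso (unitActC g' L ≫ (pC g').map t) := by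
    obtain ⟨Hk⟩ := KInj.nonempty_homotopy_of_Q_map_eq hk'
    let H' : Homotopy (t₁ ≫ k) t := Homotopy.equivSubZero.symm Hk
    have h := HomotopyCategory.eq_of_homotopy _ _ ((Scheme.Modules.pushforward g').mapHomotopy H')
    have h' := congrArg (fun r => (DerivedCategory.quotientCompQhIso X.Modules).inv.app _ ≫
      DerivedCategory.Qh.map r ≫ (DerivedCategory.quotientCompQhIso X.Modules).hom.app _) h
    have hQ : DerivedCategory.Q.map ((pC g').map (t₁ ≫ k)) = DerivedCategory.Q.map ((pC g').map t) := by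
      simpa using h'
    refine (DerivedCategory.isIso_Q_map_iff_quasiIso _ _).1 ?_
    rw [Functor.map_comp, ← hQ, ← Functor.map_comp, Functor.map_comp (pC g'), ← Category.assoc]
    infer_instance
  let b := (qC f).map p ≫ betaC H.w
  haveI : IsIso (beta H.w) := isIso_beta H
  haveI : IsIso (betaC H.w) :=
    inferInstanceAs (IsIso ((singleMapHomologicalComplex (Scheme.Modules.pullback f) (ComplexShape.up ℤ) 0).hom.app _ ≫
      (HomologicalComplex.single X.Modules (ComplexShape.up ℤ) 0).map (beta H.w)))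
  haveI := hp
  haveI : QuasiIso ((DCoh.tensorCx.obj L).map b) := quasiIso_tens_of_kFlat hL b
  change QuasiIso ((DCoh.tensorCx.obj L).map b ≫ (sR L _).inv ≫ psi g' π)
  rw [psi_eq_unitActC g' t π (flat'_spec g' π)]
  infer_instance

/-- a ring map into sections over an affine scheme -/
lemma sectHom_eq {U : S.Opens} (hU : IsAffineOpen U) {Z : Scheme.{u}} (k : Z ⟶ Spec Γ(S, U)) (V : Z.Opens)
    (e : V ≤ (k ≫ hU.fromSpec) ⁻¹ᵁ U) : sectHom k V = ((k ≫ hU.fromSpec).appLE U V e).hom := by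
  refine congrArg CommRingCat.Hom.hom ?_
  rw [Scheme.Hom.comp_appLE, hU.fromSpec_app_self, Category.assoc]
  refine congrArg (_ ≫ ·) ?_
  rw [Scheme.Hom.map_appLE]

lemma bijective_appLE {Z T : Scheme.{u}} (j : Z ⟶ T) [IsOpenImmersion j] (V : Z.Opens) :
    Function.Bijective (j.appLE (j ''ᵁ V) V (j.preimage_image_eq V).ge).hom := by
  rw [← Scheme.Hom.appIso_hom']
  exact ConcreteCategory.bijective_of_isIso (j.appIso V).hom

lemma appLE_of_eq {Z T : Scheme.{u}} {k k' : Z ⟶ T} (h : k = k') (U : T.Opens) (V : Z.Opens) (e : V ≤ k ⁻¹ᵁ U) :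
    k.appLE U V e = k'.appLE U V (h ▸ e) := by subst h; rfl

/-- transport of vanishing of Tor -/
lemma subsingleton_tor_of_equiv {A : Type u} [CommRing A] {M M' N N' : ModuleCat.{u} A} (e₁ : M ≅ M') (e₂ : N ≅ N')
    (i : ℕ) (h : Subsingleton (DRing.Tor A i M' N')) : Subsingleton (DRing.Tor A i M N) := by
  let e := ((CategoryTheory.Tor (ModuleCat.{u} A) i).mapIso e₁).app N ≪≫
    ((CategoryTheory.Tor (ModuleCat.{u} A) i).obj M').mapIso e₂
  exact e.toLinearEquiv.toEquiv.subsingleton_congr.2 h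

/-- **the local hypothesis of a Tor independent square** -/
theorem exists_local_tor (htor : ∀ (U : S.Opens), IsAffineOpen U → ∀ (U' : S'.Opens), IsAffineOpen U' →
      ∀ (hU' : U' ≤ g₀ ⁻¹ᵁ U) (V : X.Opens), IsAffineOpen V → ∀ (hV : V ≤ f ⁻¹ᵁ U) (i : ℕ), 0 < i →
      Subsingleton (@DRing.Tor Γ(S, U) _ i Γ(S', U') Γ(X, V) _ (g₀.appLE U U' hU').hom.toModule _
        (f.appLE U V hV).hom.toModule))
    {L : CochainComplex X.Modules ℤ} (hL : DCoh.IsKFlat L) (hLq : ∀ i, Coh.IsQCoh (L.homology i))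
    {N : CochainComplex X.Modules ℤ} (l : L ⟶ N) [QuasiIso l]
    {J : CochainComplex X'.Modules ℤ} [J.IsKInjective] (π : N ⟶ (pC g').obj J) [QuasiIso (flat' g' (l ≫ π))]
    {Vs Xs Ws Ys : Scheme.{u}} (jV : Vs ⟶ S) (jX : Xs ⟶ X) (jW : Ws ⟶ S') (jY : Ys ⟶ X')
    [IsOpenImmersion jV] [IsOpenImmersion jX] [IsOpenImmersion jW] [IsOpenImmersion jY]
    {fV : Xs ⟶ Vs} {gW : Ws ⟶ Vs} {gY : Ys ⟶ Xs} {fY : Ys ⟶ Ws}
    [IsAffine Vs] [IsAffine Ws] (HW : IsPullback gY fY fV gW) (wf : fV ≫ jV = jX ≫ f)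
    (wg' : gY ≫ jX = jY ≫ g') (wg : gW ≫ jV = jW ≫ g₀) :
    ∃ (P : CochainComplex Vs.Modules ℤ) (p : P ⟶ sg ((Scheme.Modules.pushforward gW).obj (OO Ws))),
      DCoh.IsKFlat P ∧ QuasiIso p ∧ QuasiIso (tMap HW.w p (resC wg' π)) := by
  haveI : CochainComplex.IsKInjective ((rC jY).obj J) := DQPush.isKInjective_restrict_open jY J ‹_›
  let U := jV.opensRange
  have hU : IsAffineOpen U := isAffineOpen_opensRange jV
  let A := Γ(S, U)
  let a : Vs ≅ Spec A := IsOpenImmersion.isoOfRangeEq jV hU.fromSpec (by rw [hU.range_fromSpec]; rfl)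
  have ha : a.hom ≫ hU.fromSpec = jV := IsOpenImmersion.isoOfRangeEq_hom_fac _ _ _
  let gZ := gW ≫ a.hom
  let fZ := fV ≫ a.hom
  let M₀ := (Scheme.Modules.pushforward gZ).obj (OO Ws)
  haveI hM₀ : M₀.IsQuasicoherent := by
    haveI : (OO Ws).IsQuasicoherent := QC.isQCoh_unit _
    exact QC.isQCoh_pushforward gZ
  haveI : IsIso M₀.fromTildeΓ := Scheme.Modules.isIso_fromTildeΓ_of_isQuasicoherent (R := A) M₀
  let NA : ModuleCat.{u} A := (moduleSpecΓFunctor (R := A)).obj M₀
  let R := projectiveResolution NA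
  let T := (tilde.functor A).mapHomologicalComplex (ComplexShape.up ℤ)
  haveI : PreservesFiniteColimits (tilde.functor A) := by
    haveI : PreservesColimitsOfSize.{0, 0} (tilde.functor A) :=
      (tilde.adjunction (R := A)).leftAdjoint_preservesColimits
    infer_instance
  haveI : (tilde.functor A).PreservesHomology :=
    (tilde.functor A).preservesHomology_of_preservesMonos_and_cokernels
  let eS : T.obj ((HomologicalComplex.single _ (ComplexShape.up ℤ) 0).obj NA) ≅ sg M₀ :=
    (singleMapHomologicalComplex (tilde.functor A) (ComplexShape.up ℤ) 0).app NA ≪≫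
      (HomologicalComplex.single _ (ComplexShape.up ℤ) 0).mapIso (asIso M₀.fromTildeΓ)
  have HA : IsPullback gW (𝟙 Ws) a.hom gZ := IsPullback.of_vert_isIso ⟨(Category.id_comp _).symm⟩
  haveI := isIso_beta HA
  let eS' : (qC a.hom).obj (sg M₀) ≅ sg ((Scheme.Modules.pushforward gW).obj (OO Ws)) :=
    (singleMapHomologicalComplex (Scheme.Modules.pullback a.hom) (ComplexShape.up ℤ) 0).app M₀ ≪≫
      (HomologicalComplex.single _ (ComplexShape.up ℤ) 0).mapIso (asIso (beta HA.w))
  haveI : (Scheme.Modules.pullback a.hom).PreservesHomology := by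
    haveI := RelPCS.preservesFiniteLimits_pullback a.hom
    haveI := (Scheme.Modules.pullbackPushforwardAdjunction a.hom).leftAdjoint_preservesColimits.{0, 0}
    infer_instance
  let q := T.map (DRingKP.resToSingle R)
  haveI : QuasiIso q := HomologicalComplex.quasiIso_map_of_preservesHomology _ _
  let p : (qC a.hom).obj (T.obj R.cochainComplex) ⟶ sg ((Scheme.Modules.pushforward gW).obj (OO Ws)) :=
    (qC a.hom).map (q ≫ eS.hom) ≫ eS'.hom
  haveI : QuasiIso ((qC a.hom).map (q ≫ eS.hom)) := HomologicalComplex.quasiIso_map_of_preservesHomology _ _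
  have hK : DRing.IsKFlat A R.cochainComplex :=
    DRingKP.isKFlat_of_bounded (b := 0) ((CochainComplex.isStrictlyLE_iff _ 0).1 inferInstance)
      (DRingKP.flat_of_projective fun _ => inferInstance)
  refine ⟨_, p, isKFlat_pullback a.hom (TildeKFlat.tilde_isKFlat _ hK), inferInstance, ?_⟩
  -- the inverse image to `Xs`
  haveI hq : QuasiIso ((qC fZ).map q) := by
    refine quasiIso_pullback_tilde fZ NA R fun V' hV' i hi => ?_
    let V := jX ''ᵁ V'
    let U' := jW ''ᵁ (⊤ : Ws.Opens)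
    have hU' : U' ≤ g₀ ⁻¹ᵁ U := by
      rintro _ ⟨z, -, rfl⟩
      exact ⟨gW.base z, congrArg (fun t => (Scheme.Hom.toLRSHom t).base z) wg⟩
    have hV : V ≤ f ⁻¹ᵁ U := by
      rintro _ ⟨z, -, rfl⟩
      exact ⟨fV.base z, congrArg (fun t => (Scheme.Hom.toLRSHom t).base z) wf⟩
    have h := htor U hU U' ((isAffineOpen_top Ws).image_of_isOpenImmersion jW) hU' V
      (hV'.image_of_isOpenImmersion jX) hV i hi
    have e₁ : jW ≫ g₀ = gZ ≫ hU.fromSpec := by rw [← wg, Category.assoc, ha]
    have e₂ : jX ≫ f = fZ ≫ hU.fromSpec := by rw [← wf, Category.assoc, ha]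
    have leW : (⊤ : Ws.Opens) ≤ (jW ≫ g₀) ⁻¹ᵁ U :=
      (jW.preimage_image_eq ⊤).ge.trans (jW.preimage_mono hU')
    have leX : V' ≤ (jX ≫ f) ⁻¹ᵁ U := (jX.preimage_image_eq V').ge.trans (jX.preimage_mono hV)
    have k₁ : sectHom gZ ⊤ =
        (jW.appLE U' ⊤ (jW.preimage_image_eq ⊤).ge).hom.comp (g₀.appLE U U' hU').hom := by
      rw [sectHom_eq hU gZ ⊤ (e₁ ▸ leW), ← appLE_of_eq e₁ U ⊤ leW, ← CommRingCat.hom_comp,
        Scheme.Hom.appLE_comp_appLE]
    have k₂ : sectHom fZ V' =
        (jX.appLE V V' (jX.preimage_image_eq V').ge).hom.comp (f.appLE U V hV).hom := by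
      rw [sectHom_eq hU fZ V' (e₂ ▸ leX), ← appLE_of_eq e₂ U V' leX, ← CommRingCat.hom_comp,
        Scheme.Hom.appLE_comp_appLE]
    letI := (g₀.appLE U U' hU').hom.toModule
    letI := (f.appLE U V hV).hom.toModule
    letI := (sectHom fZ V').toModule
    let c₁ : Γ(S', U') →ₗ[A] NA :=
      { toFun := (jW.appLE U' ⊤ (jW.preimage_image_eq ⊤).ge).hom
        map_add' := map_add _
        map_smul' := fun r x => by
          change (jW.appLE U' ⊤ (jW.preimage_image_eq ⊤).ge).hom ((g₀.appLE U U' hU').hom r * x) =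
            ((Scheme.ΓSpecIso A).inv ≫ gZ.app ⊤).hom r *
              (show Γ(Ws, gZ ⁻¹ᵁ ⊤) from (jW.appLE U' ⊤ (jW.preimage_image_eq ⊤).ge).hom x)
          rw [map_mul, Scheme.Hom.app_eq_appLE]
          exact congrArg (· * _) (RingHom.congr_fun k₁ r).symm }
    let c₂ : Γ(X, V) →ₗ[A] Γ(Xs, V') :=
      { toFun := (jX.appLE V V' (jX.preimage_image_eq V').ge).hom
        map_add' := map_add _
        map_smul' := fun r x => by
          refine (map_mul _ _ _).trans ?_
          exact congrArg (· * _) (RingHom.congr_fun k₂ r).symm }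
    exact subsingleton_tor_of_equiv
      (M' := ModuleCat.of A Γ(S', U')) (N' := ModuleCat.of A Γ(X, V))
      (LinearEquiv.ofBijective c₁ (bijective_appLE jW ⊤)).toModuleIso.symm
      (LinearEquiv.ofBijective c₂ (bijective_appLE jX V')).toModuleIso.symm i h
  haveI hp : QuasiIso ((qC fV).map p) := by
    haveI : QuasiIso ((qC fV).map ((qC a.hom).map (q ≫ eS.hom))) := by
      let E := NatIso.mapHomologicalComplex (Scheme.Modules.pullbackComp fV a.hom) (ComplexShape.up ℤ)
      have hn := E.hom.naturality (q ≫ eS.hom)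
      haveI : QuasiIso ((qC fZ).map (q ≫ eS.hom)) := by rw [Functor.map_comp]; infer_instance
      let Φ := (Scheme.Modules.pullback a.hom ⋙ Scheme.Modules.pullback fV).mapHomologicalComplex (ComplexShape.up ℤ)
      haveI : QuasiIso (Φ.map (q ≫ eS.hom) ≫ E.hom.app _) := by rw [hn]; infer_instance
      exact quasiIso_of_comp_right (Φ.map (q ≫ eS.hom)) (E.hom.app _)
    rw [Functor.map_comp]
    infer_instance
  let π₁ := resC wg' (l ≫ π)
  haveI : QuasiIso (flat' gY π₁) := quasiIso_flat'_resC wg' (l ≫ π)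
  haveI h1 : QuasiIso (tMap HW.w p π₁) :=
    quasiIso_tMap_of_qiso HW p hp (isKFlat_rC jX hL) (isQCoh_homology_rC jX hLq) π₁
  have e1 : π₁ = (rC jX).map l ≫ resC wg' π := resC_comp wg' l π
  rw [e1, tMap_comp] at h1
  haveI := h1
  haveI : QuasiIso ((DCoh.tensorCx.map ((rC jX).map l)).app ((qC fV).obj ((qC a.hom).obj (T.obj R.cochainComplex)))) :=
    quasiIso_map_app_sch _ (isKFlat_pullback fV (isKFlat_pullback a.hom (TildeKFlat.tilde_isKFlat _ hK))) _
  exact quasiIso_of_comp_left ((DCoh.tensorCx.map ((rC jX).map l)).app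
    ((qC fV).obj ((qC a.hom).obj (T.obj R.cochainComplex)))) _

end Groth.Agent.TorBC
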