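import Groth.Agent.TorBC.Core
import Groth.Agent.DQCoh.RelTor

/-!
`M ↦ f^*M ⊗ G` is exact when `G` is flat over the base.
-/

set_option autoImplicit false
set_option backward.isDefEq.respectTransparency false
set_option backward.isDefEq.respectTransparency.types false
set_option linter.style.haveILetI false
set_option linter.unusedSectionVars false

universe u

open CategoryTheory Limits AlgebraicGeometry HomologicalComplex MonoidalCategory
open scoped TensorProduct

attribute [local instance] HasDerivedCategory.standard

namespace Groth.Agent.TorBC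

open Groth.Agent.KFlat Groth.Agent.ProjForm

/-- `M ↦ (B ⊗_A M) ⊗_B G` preserves monomorphisms for `A`-flat `G` -/
lemma mono_extend_tensor {A B : Type u} [CommRing A] [CommRing B] (φ : A →+* B) (G : ModuleCat.{u} B)
    (hG : Module.Flat A ((ModuleCat.restrictScalars.{u} φ).obj G)) {M N : ModuleCat.{u} A} (v : M ⟶ N) [Mono v] :
    Mono ((ModuleCat.extendScalars.{u, u, u} φ ⋙ tensorRight G).map v) := by
  letI : Algebra A B := φ.toAlgebra
  letI : Module A G := Module.compHom G φ
  haveI : IsScalarTower A B G := IsScalarTower.of_algebraMap_smul fun _ _ => rfl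
  haveI : Module.Flat A G := hG
  rw [ModuleCat.mono_iff_injective]
  let k := v.hom.baseChange B
  change Function.Injective (TensorProduct.map k LinearMap.id : (B ⊗[A] M) ⊗[B] G →ₗ[B] (B ⊗[A] N) ⊗[B] G)
  let eM := (TensorProduct.comm B (B ⊗[A] M) G).trans (TensorProduct.AlgebraTensorModule.cancelBaseChange A B B G M)
  let eN := (TensorProduct.comm B (B ⊗[A] N) G).trans (TensorProduct.AlgebraTensorModule.cancelBaseChange A B B G N)
  have key : ∀ z, eN (TensorProduct.map k LinearMap.id z) = v.hom.lTensor G (eM z) := fun z => by
    induction z using TensorProduct.induction_on with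
    | zero => simp
    | add a b ha hb => simp [map_add, ha, hb]
    | tmul bm y =>
      induction bm using TensorProduct.induction_on with
      | zero => simp
      | add a b ha hb => simp only [TensorProduct.add_tmul, map_add] at ha hb ⊢; rw [ha, hb]
      | tmul b m =>
        simp [eM, eN, k, TensorProduct.AlgebraTensorModule.cancelBaseChange_tmul]
  intro a b h
  apply eM.injective
  exact Module.Flat.lTensor_preserves_injective_linearMap v.hom ((ModuleCat.mono_iff_injective v).1 inferInstance)
    ((key a).symm.trans ((congrArg eN h).trans (key b)))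

variable {X S : Scheme.{u}} (f : X ⟶ S)

/-- `f^* ⊗ G` is exact for `G` flat over the base -/
theorem preservesHomology_flatPull (G : X.Modules) (hflat : FlatMod.IsFlatOver f G) :
    (Scheme.Modules.pullback f ⋙ (schB X).flip.obj G).PreservesHomology := by
  let Φ := Scheme.Modules.pullback f ⋙ (schB X).flip.obj G
  haveI := DQCoh.preservesColimits_flip (X := X) G
  haveI : PreservesColimitsOfSize.{0, 0} ((schB X).flip.obj G) := preservesSmallestColimits_of_preservesColimits _
  haveI := (Scheme.Modules.pullbackPushforwardAdjunction f).leftAdjoint_preservesColimits.{0, 0}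
  haveI : PreservesFiniteColimits Φ := inferInstance
  haveI : Φ.Additive := inferInstanceAs (_ ⋙ _).Additive
  haveI : Φ.PreservesMonomorphisms := ⟨fun {M N} v _ => by
    have h : ∀ x : X, Mono ((DerSch.stalkFunctor X x).map (Φ.map v)) := fun x => by
      let e : Φ ⋙ DerSch.stalkFunctor X x ≅ DerSch.stalkFunctor S (f.base x) ⋙
          ModuleCat.extendScalars.{u, u, u} (f.stalkMap x).hom ⋙ tensorRight ((DerSch.stalkFunctor X x).obj G) :=
        Functor.isoWhiskerLeft (Scheme.Modules.pullback f) (stTensorRightIso G x).symm ≪≫
          (Functor.associator _ _ _).symm ≪≫ Functor.isoWhiskerRight (pullStalkIso f x) _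
      haveI : Mono ((DerSch.stalkFunctor S (f.base x)).map v) := inferInstance
      have hm := mono_extend_tensor (f.stalkMap x).hom ((DerSch.stalkFunctor X x).obj G) (hflat x)
        ((DerSch.stalkFunctor S (f.base x)).map v)
      haveI : Mono ((DerSch.stalkFunctor S (f.base x) ⋙ ModuleCat.extendScalars.{u, u, u} (f.stalkMap x).hom ⋙
          tensorRight ((DerSch.stalkFunctor X x).obj G)).map v) :=
        hm
      change Mono ((Φ ⋙ DerSch.stalkFunctor X x).map v)
      rw [← NatIso.naturality_2 e v]
      exact mono_comp' (IsIso.mono_of_iso (e.hom.app M)) (mono_comp' ‹_› (IsIso.mono_of_iso (e.inv.app N)))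
    refine Preadditive.mono_of_isZero_kernel _ (isZero_of_stalks _ fun x => ?_)
    haveI := h x
    have h0 : (DerSch.stalkFunctor X x).map (kernel.ι (Φ.map v)) = 0 :=
      zero_of_comp_mono ((DerSch.stalkFunctor X x).map (Φ.map v))
        (by rw [← Functor.map_comp, kernel.condition, Functor.map_zero])
    haveI : Mono ((DerSch.stalkFunctor X x).map (kernel.ι (Φ.map v))) :=
      ((DerSch.stalkFunctor X x).map_mono _)
    exact IsZero.of_mono_eq_zero _ h0⟩
  exact Φ.preservesHomology_of_preservesMonos_and_cokernels

end Groth.Agent.TorBC
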