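import Groth.Agent.TorBC.Act
import Groth.Agent.TMul.Basic
import Groth.Agent.W7AffBC.Basic
import Groth.Agent.DQPush.QcFlasque

/-!
For an affine morphism `g` and quasi-coherent `G`, `G ⊗ g_*O = g_* g^* G`; affine base change of the
structure sheaf; sections of tensor products are locally sums of pure tensors.
-/

set_option autoImplicit false
set_option backward.isDefEq.respectTransparency false
set_option backward.isDefEq.respectTransparency.types false
set_option linter.style.haveILetI false
set_option linter.unusedSectionVars false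

universe u

open CategoryTheory Limits Opposite TopologicalSpace AlgebraicGeometry TensorProduct

namespace Groth.Agent.TorBC

open Groth.Agent.KFlat Groth.Agent.ProjForm

variable {X Y : Scheme.{u}}

lemma tm_add_left {A B : X.Modules} {U : X.Opens} (a a' : Γ(A, U)) (b : Γ(B, U)) :
    tm (a + a') b = tm a b + tm a' b :=
  TMul.tm_add a a' b

lemma res_tm {A B : X.Modules} {U V : X.Opens} (h : V ≤ U) (a : Γ(A, U)) (b : Γ(B, U)) :
    QC.res (((schB X).obj A).obj B) h (tm a b) = tm (QC.res A h a) (QC.res B h b) :=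
  TMul.res_tm h a b

/-- sections agreeing on pure tensors -/
theorem app_eq_of_pure {A B C : X.Modules} (U : X.Opens) (p : Γ(A, U) ⊗[Γ(X, U)] Γ(B, U))
    {φ ψ : Γ(((schB X).obj A).obj B, U) →+ Γ(C, U)} (h : ∀ a b, φ (tm a b) = ψ (tm a b)) :
    φ (TMul.tt A B U p) = ψ (TMul.tt A B U p) := by
  induction p using TensorProduct.induction_on with
  | zero => exact (congrArg φ (map_zero (TMul.tt A B U))).trans ((map_zero φ).trans
      ((congrArg ψ (map_zero (TMul.tt A B U))).trans (map_zero ψ)).symm)
  | tmul a b => exact h a b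
  | add a b ha hb =>
    exact (congrArg φ (map_add (TMul.tt A B U) a b)).trans ((map_add φ _ _).trans
      ((congrArg₂ (· + ·) ha hb).trans ((congrArg ψ (map_add (TMul.tt A B U) a b)).trans (map_add ψ _ _)).symm))

/-- maps out of a nested tensor product are determined on pure tensors -/
theorem tens_ext₃ {A B C D : X.Modules}
    {φ ψ : ((schB X).obj (((schB X).obj A).obj B)).obj C ⟶ D}
    (h : ∀ (U : X.Opens) (a : Γ(A, U)) (b : Γ(B, U)) (c : Γ(C, U)),
      φ.app U (tm (tm a b) c) = ψ.app U (tm (tm a b) c)) : φ = ψ := by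
  refine tens_ext fun U s c => QC.section_eq_of_locally fun x hx => ?_
  obtain ⟨V, hV, p, hxV, hp⟩ := TMul.exists_tt (M := A) (N := B) s hx
  refine ⟨V, hV, hxV, ?_⟩
  rw [QC.app_res, QC.app_res, res_tm]
  rw [show QC.res (((schB X).obj A).obj B) hV s = TMul.tt A B V p from hp.symm]
  let T : Γ(((schB X).obj A).obj B, V) →+ Γ(((schB X).obj (((schB X).obj A).obj B)).obj C, V) :=
    AddMonoidHom.mk' (fun z => tm z (QC.res C hV c)) fun z z' => tm_add_left z z' _
  exact app_eq_of_pure V p (φ := ((φ.app V).hom).comp T) (ψ := ((ψ.app V).hom).comp T)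
    fun a b => h V a b (QC.res C hV c)

variable (g : Y ⟶ X) [IsAffineHom g]

/-- `unitAct` for a quasi-coherent module and an affine morphism -/
theorem isIso_unitAct {G : X.Modules} (hG : Coh.IsQCoh G) :
    IsIso (((schB X).map ((Scheme.Modules.pullbackPushforwardAdjunction g).unit.app G)).app
      ((Scheme.Modules.pushforward g).obj (OO Y)) ≫ act g ((Scheme.Modules.pullback g).obj G)) := by
  let GO := (Scheme.Modules.pushforward g).obj (OO Y)
  let G' := (Scheme.Modules.pullback g).obj G
  let α := ((schB X).map ((Scheme.Modules.pullbackPushforwardAdjunction g).unit.app G)).app GO ≫ act g G'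
  -- sections over an affine open
  have key : ∀ (V : X.Opens), IsAffineOpen V →
      (∀ p : Γ(G, V) ⊗[Γ(X, V)] Γ(GO, V), α.app V (TMul.tt G GO V p) = 0 → p = 0) ∧
        Function.Surjective (α.app V) := by
    intro V hV
    let θ := RelTilde.resθ g ((Scheme.Modules.pullbackPushforwardAdjunction g).unit.app G) (le_refl (g ⁻¹ᵁ V))
    let B := Γ(X, V)
    let B' := Γ(Y, g ⁻¹ᵁ V)
    letI : Algebra B B' := (g.appLE V (g ⁻¹ᵁ V) le_rfl).hom.toAlgebra
    let Q : Type u := Γ(G', g ⁻¹ᵁ V)
    letI : Module B Q := Module.compHom Q (g.appLE V (g ⁻¹ᵁ V) le_rfl).hom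
    haveI : IsScalarTower B B' Q :=
      ⟨fun t t' q => mul_smul ((g.appLE V (g ⁻¹ᵁ V) le_rfl).hom t) t' q⟩
    let θ' : Γ(G, V) →ₗ[B] Q := { toFun := θ, map_add' := map_add θ, map_smul' := fun t p => θ.map_smulₛₗ t p }
    have hθ : IsBaseChange B' θ' := by
      refine IsBaseChange.of_lift_unique _ fun R _ => ?_
      intro _ _ _ w
      letI : AddCommGroup R := Module.addCommMonoidToAddCommGroup B'
      let w' : Γ(G, V) →ₛₗ[(g.appLE V (g ⁻¹ᵁ V) le_rfl).hom] R :=
        { toFun := w, map_add' := map_add w, map_smul' := fun t p => (map_smul w t p).trans (algebraMap_smul B' t (w p)).symm }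
      obtain ⟨f, hf, hu⟩ := RelTilde.isBC_unit g hG hV (hV.preimage g) le_rfl R w'
      exact ⟨f, LinearMap.ext hf, fun f' hf' => hu f' fun m => LinearMap.congr_fun hf' m⟩
    let eB : Γ(GO, V) ≃ₗ[B] B' :=
      { toFun := fun z => z
        invFun := fun z => z
        map_add' := fun _ _ => rfl
        map_smul' := fun t z =>
          congrArg (fun r : B' => r * (show B' from z))
            (congrArg (fun k : Γ(X, V) ⟶ Γ(Y, g ⁻¹ᵁ V) => k.hom t) g.appLE_eq_app.symm)
        left_inv := fun _ => rfl
        right_inv := fun _ => rfl }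
    let e : Γ(G, V) ⊗[B] Γ(GO, V) ≃+ Q :=
      ((TensorProduct.comm B _ _).toAddEquiv.trans
        (TensorProduct.congr eB (LinearEquiv.refl B Γ(G, V))).toAddEquiv).trans hθ.equiv.toAddEquiv
    have he : ∀ p, α.app V (TMul.tt G GO V p) = e p := fun p => by
      induction p using TensorProduct.induction_on with
      | zero => exact ((congrArg (α.app V) (map_zero (TMul.tt G GO V))).trans (map_zero _)).trans (map_zero e).symm
      | add a b ha hb =>
        exact ((congrArg (α.app V) (map_add (TMul.tt G GO V) a b)).trans (map_add _ _ _)).trans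
          ((congrArg₂ (· + ·) ha hb).trans (map_add e a b).symm)
      | tmul m c =>
        refine Eq.trans ?_ (hθ.equiv_tmul (show B' from c) m).symm
        refine (congrArg ((act g G').app V) (tm_map_left _ m c)).trans ?_
        refine (act_app g G' _ _).trans ?_
        exact congrArg ((show B' from c) • ·) (QC.res_self G' _ _).symm
    exact ⟨fun p hp => e.injective (((he p).symm.trans hp).trans (map_zero e).symm),
      fun z => ⟨TMul.tt G GO V (e.symm z), (he _).trans (e.apply_symm_apply z)⟩⟩
  refine DQPush.isIso_of_bijective_affine α fun U hU => ⟨?_, (key U hU).2⟩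
  refine (injective_iff_map_eq_zero _).2 fun s hs => QC.section_eq_of_locally fun x hx => ?_
  obtain ⟨V₁, hV₁, p, hxV, hp⟩ := TMul.exists_tt (M := G) (N := GO) s hx
  obtain ⟨_, ⟨(V : X.Opens), hV, rfl⟩, hxV', hVW⟩ :=
    X.isBasis_affineOpens.exists_subset_of_mem_open hxV V₁.isOpen
  refine ⟨V, le_trans hVW hV₁, hxV', ?_⟩
  have hp' : TMul.tt G GO V (TMul.resT G GO hVW p) = QC.res _ (le_trans hVW hV₁) s := by
    rw [← TMul.res_tt, hp]
    exact QC.res_res _ _ _ _
  have h0 : α.app V (TMul.tt G GO V (TMul.resT G GO hVW p)) = 0 := by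
    rw [hp', ← QC.app_res, hs, map_zero]
  rw [map_zero, ← hp', (key V hV).1 _ h0]
  exact map_zero _

variable {X' S S' : Scheme.{u}} {g' : X' ⟶ X} {f : X ⟶ S} {g₀ : S' ⟶ S} {f' : X' ⟶ S'}

/-- affine base change of the structure sheaf -/
theorem isIso_beta [IsAffineHom g₀] (H : IsPullback g' f' f g₀) : IsIso (beta H.w) := by
  haveI := W7AffBC.isIso_baseChange H.flip (OO S') (QC.isQCoh_unit S')
  let adj := Scheme.Modules.pullbackPushforwardAdjunction f
  have e : beta H.w = (adj.homEquiv _ _).symm (W7AffBC.theta H.flip (OO S')) ≫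
      (Scheme.Modules.pushforward g').map (DerPerf.pullUnitIso f').hom := by
    refine Eq.trans ?_ (adj.homEquiv_naturality_right_symm _ _)
    refine congrArg (adj.homEquiv _ _).symm (Scheme.Modules.hom_ext _ _ fun U => ?_)
    ext c
    have e₀ : g' ⁻¹ᵁ (f ⁻¹ᵁ U) ≤ f' ⁻¹ᵁ (g₀ ⁻¹ᵁ U) := by
      rw [← Scheme.Hom.comp_preimage, ← Scheme.Hom.comp_preimage, H.w]
    have h : (Scheme.Modules.pullbackPushforwardAdjunction f').unit.app (OO S') ≫
        (Scheme.Modules.pushforward f').map (DerPerf.pullUnitIso f').hom =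
        SheafOfModules.unitToPushforwardObjUnit f'.toRingCatSheafHom :=
      ((Scheme.Modules.pullbackPushforwardAdjunction f').homEquiv_unit _ _ _).symm.trans
        (Equiv.apply_symm_apply _ _)
    refine Eq.trans ?_ (congrArg (((DerPerf.pullUnitIso f').hom).app (g' ⁻¹ᵁ (f ⁻¹ᵁ U)))
      (W7AffBC.theta_app H.flip (OO S') U c e₀)).symm
    refine Eq.trans ?_ (QC.app_res _ e₀ _)
    exact congrArg (fun t => QC.res (OO X') e₀ ((Scheme.Modules.Hom.app t (g₀ ⁻¹ᵁ U)).hom c)) h.symm
  rw [e]
  exact IsIso.comp_isIso' ‹_› inferInstance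

end Groth.Agent.TorBC
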