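import Groth.Agent.TorBC.Restr
import Groth.Agent.DQPush.OpenBC

/-!
Base change along an arbitrary morphism, reduced to affine morphisms.
-/

set_option autoImplicit false
set_option backward.isDefEq.respectTransparency false
set_option backward.isDefEq.respectTransparency.types false
set_option linter.style.haveILetI false
set_option linter.unusedSectionVars false

universe u

open CategoryTheory Limits AlgebraicGeometry HomologicalComplex

attribute [local instance] HasDerivedCategory.standard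

namespace Groth.Agent.TorBC

open Groth.Agent.KFlat Groth.Agent.ProjForm

variable {X : Scheme.{u}}

lemma flat'_naturality_right {Y : Scheme.{u}} (g : Y ⟶ X) {F : CochainComplex X.Modules ℤ}
    {D D' : CochainComplex Y.Modules ℤ} (a : F ⟶ (pC g).obj D) (b : D ⟶ D') :
    flat' g (a ≫ (pC g).map b) = flat' g a ≫ b :=
  Adjunction.homEquiv_naturality_right_symm _ _ _

lemma flat'_naturality_left {Y : Scheme.{u}} (g : Y ⟶ X) {F F' : CochainComplex X.Modules ℤ}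
    {D : CochainComplex Y.Modules ℤ} (c : F' ⟶ F) (a : F ⟶ (pC g).obj D) :
    flat' g (c ≫ a) = (qC g).map c ≫ flat' g a :=
  Adjunction.homEquiv_naturality_left_symm _ _ _

variable {U : Scheme.{u}} (j : U ⟶ X) [IsOpenImmersion j]

lemma isKFlat_rC {K : CochainComplex X.Modules ℤ} (hK : DCoh.IsKFlat K) : DCoh.IsKFlat ((rC j).obj K) :=
  (rflat_iff_sch _).2 (rflat_of_iso
    ((NatIso.mapHomologicalComplex (Scheme.Modules.restrictFunctorIsoPullback j) (ComplexShape.up ℤ)).app K).symm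
    ((rflat_iff_sch _).1 (isKFlat_pullback j hK)))

lemma isQCoh_homology_rC {K : CochainComplex X.Modules ℤ} (h : ∀ i, Coh.IsQCoh (K.homology i)) :
    ∀ i, Coh.IsQCoh (((rC j).obj K).homology i) := fun i =>
  QC.isQCoh_of_iso ((K.sc i).mapHomologyIso (Scheme.Modules.restrictFunctor j)).symm (QC.isQCoh_restrict j (h i))

variable {X' S S' : Scheme.{u}} {g' : X' ⟶ X} {f : X ⟶ S} {g₀ : S' ⟶ S} {f' : X' ⟶ S'}
  {Vs Xs Ws Ys : Scheme.{u}} {jV : Vs ⟶ S} {jX : Xs ⟶ X} {jW : Ws ⟶ S'} {jY : Ys ⟶ X'}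
  [IsOpenImmersion jV] [IsOpenImmersion jX] [IsOpenImmersion jW] [IsOpenImmersion jY]
  {fV : Xs ⟶ Vs} {gW : Ws ⟶ Vs} {gY : Ys ⟶ Xs} {fY : Ys ⟶ Ws}

/-- base change over one affine piece -/
theorem qisOn_baseChange (w : g' ≫ f = f' ≫ g₀) (wf : fV ≫ jV = jX ≫ f) (wg' : gY ≫ jX = jY ≫ g')
    (wf' : fY ≫ jW = jY ≫ f') (wg : gW ≫ jV = jW ≫ g₀)
    (hrf : jX.opensRange = f ⁻¹ᵁ jV.opensRange) (hrf' : jY.opensRange = f' ⁻¹ᵁ jW.opensRange)
    [IsAffineHom gW] [QuasiCompact fV] [QuasiSeparated fV] (HW : IsPullback gY fY fV gW)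
    {P : CochainComplex Vs.Modules ℤ} (hP : DCoh.IsKFlat P)
    (p : P ⟶ sg ((Scheme.Modules.pushforward gW).obj (OO Ws))) [QuasiIso p]
    {N I : CochainComplex X.Modules ℤ} [I.IsKInjective] (σ : N ⟶ I) [QuasiIso σ] [QuasiIso ((pC f).map σ)]
    (hIq : ∀ i, Coh.IsQCoh (I.homology i))
    {J : CochainComplex X'.Modules ℤ} [J.IsKInjective] (hJq : ∀ i, Coh.IsQCoh (J.homology i))
    (π : N ⟶ (pC g').obj J) (hT : QuasiIso (tMap HW.w p (resC wg' π)))
    {F : CochainComplex S.Modules ℤ} (hF : DCoh.IsKFlat F) (q : F ⟶ (pC f).obj N) [QuasiIso q] :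
    QisOn jW.opensRange (flat' g₀ (q ≫ (pC f).map π ≫ bcX w J)) := by
  haveI : CochainComplex.IsKInjective ((rC jX).obj I) := DQPush.isKInjective_restrict_open jX I ‹_›
  haveI : CochainComplex.IsKInjective ((rC jY).obj J) := DQPush.isKInjective_restrict_open jY J ‹_›
  haveI : QuasiIso ((rC jX).map σ) := inferInstance
  haveI := isIso_rhoC wf hrf
  haveI := isIso_rhoC wf' hrf'
  haveI : QuasiIso ((pC fV).map ((rC jX).map σ)) := by
    haveI : QuasiIso (rhoC wf N ≫ (pC fV).map ((rC jX).map σ)) := by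
      rw [← rhoC_natural wf σ]; infer_instance
    exact quasiIso_of_comp_left (rhoC wf N) _
  haveI : QuasiIso (resC wf q) := by
    rw [resC]; infer_instance
  have h := quasiIso_baseChange HW hP p ((rC jX).map σ) (isQCoh_homology_rC jX hIq) (isQCoh_homology_rC jY hJq)
    (resC wg' π) hT (isKFlat_rC jV hF) (resC wf q)
  have e : resC wf q ≫ (pC fV).map (resC wg' π) ≫ bcX HW.w ((rC jY).obj J) =
      resC wg (q ≫ (pC f).map π ≫ bcX w J) ≫ (pC gW).map (rhoC wf' J) := by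
    simp only [resC, Functor.map_comp, Category.assoc]
    rw [← rhoC_paste w wf wg' wf' wg HW.w J]
    refine congrArg (_ ≫ ·) ?_
    rw [← Category.assoc, ← rhoC_natural wf π, Category.assoc]
  rw [e, flat'_naturality_right] at h
  exact qisOn_of_resC wg _ (quasiIso_of_comp_right _ (rhoC wf' J))

/-- **base change**, local form: it suffices to treat affine pieces -/
theorem quasiIso_baseChange_local [QuasiCompact f] [QuasiSeparated f] (H : IsPullback g' f' f g₀)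
    {N I : CochainComplex X.Modules ℤ} [I.IsKInjective] (σ : N ⟶ I) [QuasiIso σ] [QuasiIso ((pC f).map σ)]
    (hIq : ∀ i, Coh.IsQCoh (I.homology i))
    {J : CochainComplex X'.Modules ℤ} [J.IsKInjective] (hJq : ∀ i, Coh.IsQCoh (J.homology i))
    (π : N ⟶ (pC g').obj J)
    (hT : ∀ {Vs Xs Ws Ys : Scheme.{u}} (jV : Vs ⟶ S) (jX : Xs ⟶ X) (jW : Ws ⟶ S') (jY : Ys ⟶ X')
      [IsOpenImmersion jV] [IsOpenImmersion jX] [IsOpenImmersion jW] [IsOpenImmersion jY]
      (fV : Xs ⟶ Vs) (gW : Ws ⟶ Vs) (gY : Ys ⟶ Xs) (fY : Ys ⟶ Ws) [IsAffine Vs] [IsAffine Ws]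
      [QuasiCompact fV] [QuasiSeparated fV]
      (HW : IsPullback gY fY fV gW) (_ : fV ≫ jV = jX ≫ f) (wg' : gY ≫ jX = jY ≫ g') (_ : gW ≫ jV = jW ≫ g₀)
      (_ : jX.opensRange = f ⁻¹ᵁ jV.opensRange),
      ∃ (P : CochainComplex Vs.Modules ℤ) (p : P ⟶ sg ((Scheme.Modules.pushforward gW).obj (OO Ws))),
        DCoh.IsKFlat P ∧ QuasiIso p ∧ QuasiIso (tMap HW.w p (resC wg' π)))
    {F : CochainComplex S.Modules ℤ} (hF : DCoh.IsKFlat F) (q : F ⟶ (pC f).obj N) [QuasiIso q] :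
    QuasiIso (flat' g₀ (q ≫ (pC f).map π ≫ bcX H.w J)) := by
  refine quasiIso_of_qisOn _ fun y => ?_
  obtain ⟨V, hV, hyV, -⟩ := exists_isAffineOpen_mem_and_subset (X := S) (x := g₀.base y) (U := ⊤) trivial
  obtain ⟨W, hW, hyW, hWV⟩ := exists_isAffineOpen_mem_and_subset (X := S') (x := y) (U := g₀ ⁻¹ᵁ V) hyV
  let UX := f ⁻¹ᵁ V
  let UY := f' ⁻¹ᵁ W
  have hUY : UY = g' ⁻¹ᵁ UX ⊓ f' ⁻¹ᵁ W := by
    refine le_antisymm (le_inf ?_ le_rfl) inf_le_right
    refine (f'.preimage_mono hWV).trans ?_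
    rw [← Scheme.Hom.comp_preimage, ← Scheme.Hom.comp_preimage, H.w]
  have hY : UY ≤ g' ⁻¹ᵁ UX := hUY.le.trans inf_le_left
  have HW : IsPullback (g'.resLE UX UY hY) (f'.resLE W UY le_rfl) (f.resLE V UX le_rfl) (g₀.resLE V W hWV) :=
    Scheme.Hom.isPullback_resLE H hWV le_rfl hUY
  haveI : IsAffine (V : Scheme.{u}) := hV
  haveI : IsAffine (W : Scheme.{u}) := hW
  haveI : QuasiCompact (f.resLE V UX le_rfl) := by
    rw [Scheme.Hom.resLE_eq_morphismRestrict]; exact IsZariskiLocalAtTarget.restrict ‹QuasiCompact f› V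
  haveI : QuasiSeparated (f.resLE V UX le_rfl) := by
    rw [Scheme.Hom.resLE_eq_morphismRestrict]; exact IsZariskiLocalAtTarget.restrict ‹QuasiSeparated f› V
  have hrf : UX.ι.opensRange = f ⁻¹ᵁ V.ι.opensRange := by simp [UX]
  have hrf' : UY.ι.opensRange = f' ⁻¹ᵁ W.ι.opensRange := by simp [UY]
  obtain ⟨P, p, hP, hp, hTW⟩ := hT V.ι UX.ι W.ι UY.ι _ _ _ _ HW (Scheme.Hom.resLE_comp_ι f le_rfl)
    (Scheme.Hom.resLE_comp_ι g' hY) (Scheme.Hom.resLE_comp_ι g₀ hWV) hrf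
  haveI := hp
  refine ⟨W.ι.opensRange, by simpa using hyW, ?_⟩
  exact qisOn_baseChange H.w (Scheme.Hom.resLE_comp_ι f le_rfl) (Scheme.Hom.resLE_comp_ι g' hY)
    (Scheme.Hom.resLE_comp_ι f' le_rfl) (Scheme.Hom.resLE_comp_ι g₀ hWV) hrf hrf' HW hP p σ hIq hJq π hTW hF q

end Groth.Agent.TorBC
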