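import Groth.Agent.TorBC.Core
import Groth.Agent.ProjForm.Range

/-!
Restriction of transposed maps along commutative squares with open immersions.
-/

set_option autoImplicit false
set_option backward.isDefEq.respectTransparency false
set_option backward.isDefEq.respectTransparency.types false
set_option linter.style.haveILetI false
set_option linter.unusedSectionVars false

universe u

open CategoryTheory Limits AlgebraicGeometry HomologicalComplex

attribute [local instance] HasDerivedCategory.standard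

namespace Groth.Agent.TorBC

open Groth.Agent.KFlat Groth.Agent.ProjForm

variable {Z S V W : Scheme.{u}} {g : Z ⟶ S} {jV : V ⟶ S} {jW : W ⟶ Z} {gW : W ⟶ V}
  [IsOpenImmersion jV] [IsOpenImmersion jW] (w : gW ≫ jV = jW ≫ g)

/-- restriction on complexes -/
noncomputable abbrev rC {U Y : Scheme.{u}} (j : U ⟶ Y) [IsOpenImmersion j] :
    CochainComplex Y.Modules ℤ ⥤ CochainComplex U.Modules ℤ :=
  (Scheme.Modules.restrictFunctor j).mapHomologicalComplex (ComplexShape.up ℤ)

/-- `(g_* D)|_V ⟶ g_{W*}(D|_W)` -/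
noncomputable def rho :
    Scheme.Modules.pushforward g ⋙ Scheme.Modules.restrictFunctor jV ⟶
      Scheme.Modules.restrictFunctor jW ⋙ Scheme.Modules.pushforward gW where
  app D := ((Scheme.Modules.restrictAdjunction jV).homEquiv _ _).symm
    ((Scheme.Modules.pushforward g).map ((Scheme.Modules.restrictAdjunction jW).unit.app D) ≫
      (FlatBCD.bcC w).inv.app _)
  naturality D D' a := by
    rw [Functor.comp_map, Functor.comp_map, ← Adjunction.homEquiv_naturality_left_symm,
      ← Adjunction.homEquiv_naturality_right_symm]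
    refine congrArg _ ?_
    rw [← Category.assoc, ← Functor.map_comp]
    erw [(Scheme.Modules.restrictAdjunction jW).unit.naturality a]
    rw [Functor.map_comp, Category.assoc, Category.assoc]
    exact congrArg (_ ≫ ·) ((FlatBCD.bcC w).inv.naturality ((Scheme.Modules.restrictFunctor jW).map a))

include w in
lemma rho_le (U : V.Opens) : jW ''ᵁ (gW ⁻¹ᵁ U) ≤ g ⁻¹ᵁ (jV ''ᵁ U) := by
  rintro _ ⟨z, hz, rfl⟩
  exact ⟨gW.base z, hz, congrArg (fun t => (Scheme.Hom.toLRSHom t).base z) w⟩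

lemma bcC_inv_app (M : W.Modules) (O : S.Opens) (s : Γ(M, jW ⁻¹ᵁ (g ⁻¹ᵁ O))) :
    ((FlatBCD.bcC w).inv.app M).app O s = QC.res M
      (show gW ⁻¹ᵁ (jV ⁻¹ᵁ O) ≤ jW ⁻¹ᵁ (g ⁻¹ᵁ O) by rw [← Scheme.Hom.comp_preimage, ← Scheme.Hom.comp_preimage, w]) s :=
  rfl

lemma rho_app (D : Z.Modules) (U : V.Opens) (t : Γ(D, g ⁻¹ᵁ (jV ''ᵁ U))) :
    ((rho w).app D).app U t = QC.res D (rho_le w U) t := by
  let D' := (Scheme.Modules.restrictFunctor jW).obj D
  let O := jV ''ᵁ U
  have e : (rho w).app D = (Scheme.Modules.restrictFunctor jV).map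
      ((Scheme.Modules.pushforward g).map ((Scheme.Modules.restrictAdjunction jW).unit.app D) ≫
        (FlatBCD.bcC w).inv.app _) ≫ (Scheme.Modules.restrictAdjunction jV).counit.app _ :=
    (Scheme.Modules.restrictAdjunction jV).homEquiv_counit _ _ _
  rw [e, Scheme.Modules.Hom.comp_app, ConcreteCategory.comp_apply]
  let t₁ : Γ(D, jW ''ᵁ (jW ⁻¹ᵁ (g ⁻¹ᵁ O))) := QC.res D (jW.image_preimage_le (g ⁻¹ᵁ O)) t
  refine (congrArg (((Scheme.Modules.restrictAdjunction jV).counit.app ((Scheme.Modules.pushforward gW).obj D')).app U)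
    (show _ = ((FlatBCD.bcC w).inv.app D').app O (show Γ(D', jW ⁻¹ᵁ (g ⁻¹ᵁ O)) from t₁) from rfl)).trans ?_
  refine (congrArg (((Scheme.Modules.restrictAdjunction jV).counit.app ((Scheme.Modules.pushforward gW).obj D')).app U)
    (bcC_inv_app w D' O _)).trans ?_
  have h₂ : jW ''ᵁ (gW ⁻¹ᵁ (jV ⁻¹ᵁ O)) ≤ jW ''ᵁ (jW ⁻¹ᵁ (g ⁻¹ᵁ O)) :=
    jW.image_mono (by rw [← Scheme.Hom.comp_preimage, ← Scheme.Hom.comp_preimage, w])
  have h₃ : jW ''ᵁ (gW ⁻¹ᵁ U) ≤ jW ''ᵁ (gW ⁻¹ᵁ (jV ⁻¹ᵁ O)) :=
    jW.image_mono (gW.preimage_mono (le_of_eq (jV.preimage_image_eq U).symm))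
  refine (show _ = QC.res D h₃ (QC.res D h₂ t₁) from rfl).trans ?_
  exact ((congrArg _ (QC.res_res D _ _ t)).trans (QC.res_res D _ _ t))

/-- `rho` is an isomorphism on cartesian squares -/
theorem isIso_rho_app (hr : jW.opensRange = g ⁻¹ᵁ jV.opensRange) (D : Z.Modules) : IsIso ((rho w).app D) := by
  refine Scheme.Modules.Hom.isIso_iff_isIso_app.2 fun U => ?_
  rw [ConcreteCategory.isIso_iff_bijective]
  have h : g ⁻¹ᵁ (jV ''ᵁ U) ≤ jW ''ᵁ (gW ⁻¹ᵁ U) := by
    intro z hz
    have hz' : z ∈ jW.opensRange := by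
      rw [hr]
      exact g.preimage_mono (jV.image_le_opensRange U) hz
    obtain ⟨y, rfl⟩ := hz'
    refine ⟨y, ?_, rfl⟩
    obtain ⟨v, hv, hv'⟩ := hz
    have : jV.base (gW.base y) = jV.base v :=
      (congrArg (fun t => (Scheme.Hom.toLRSHom t).base y) w).trans hv'.symm
    change gW.base y ∈ U
    rw [jV.isOpenEmbedding.injective this]
    exact hv
  have e : ∀ t, ((rho w).app D).app U t = QC.res D (rho_le w U) t := rho_app w D U
  exact ⟨fun a b hab => (QC.res_self D _ (show Γ(D, g ⁻¹ᵁ (jV ''ᵁ U)) from a)).symm.trans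
      ((QC.res_res D h (rho_le w U) _).symm.trans ((congrArg (QC.res D h) ((e a).symm.trans (hab.trans (e b)))).trans
        ((QC.res_res D _ _ _).trans (QC.res_self D _ _)))),
    fun b => ⟨QC.res D h (show Γ(D, jW ''ᵁ (gW ⁻¹ᵁ U)) from b),
      (e _).trans ((QC.res_res D _ _ _).trans (QC.res_self D _ _))⟩⟩

/-- `rho` on complexes -/
noncomputable abbrev rhoC (D : CochainComplex Z.Modules ℤ) : (rC jV).obj ((pC g).obj D) ⟶ (pC gW).obj ((rC jW).obj D) :=
  (NatTrans.mapHomologicalComplex (rho w) (ComplexShape.up ℤ)).app D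

lemma isIso_rhoC (hr : jW.opensRange = g ⁻¹ᵁ jV.opensRange) (D : CochainComplex Z.Modules ℤ) :
    IsIso (rhoC w D) := by
  haveI : ∀ n, IsIso ((rhoC w D).f n) := fun n => isIso_rho_app w hr (D.X n)
  exact HomologicalComplex.Hom.isIso_of_components _

lemma rhoC_natural {D D' : CochainComplex Z.Modules ℤ} (a : D ⟶ D') :
    (rC jV).map ((pC g).map a) ≫ rhoC w D' = rhoC w D ≫ (pC gW).map ((rC jW).map a) :=
  (NatTrans.mapHomologicalComplex (rho w) (ComplexShape.up ℤ)).naturality a

/-- the restriction of a map to a direct image -/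
noncomputable def resC {F : CochainComplex S.Modules ℤ} {D : CochainComplex Z.Modules ℤ} (a : F ⟶ (pC g).obj D) :
    (rC jV).obj F ⟶ (pC gW).obj ((rC jW).obj D) :=
  (rC jV).map a ≫ rhoC w D

lemma resC_comp {F F' : CochainComplex S.Modules ℤ} {D : CochainComplex Z.Modules ℤ} (b : F' ⟶ F)
    (a : F ⟶ (pC g).obj D) : resC w (b ≫ a) = (rC jV).map b ≫ resC w a := by
  simp [resC]

/-- the right adjoint `g_* jW_* = jV_* g_{W*}` -/
noncomputable def adjL : Scheme.Modules.restrictFunctor jV ⋙ Scheme.Modules.pullback gW ⊣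
    Scheme.Modules.pushforward jW ⋙ Scheme.Modules.pushforward g :=
  ((Scheme.Modules.restrictAdjunction jV).comp (Scheme.Modules.pullbackPushforwardAdjunction gW)).ofNatIsoRight
    (FlatBCD.bcC w)

/-- inverse images commute with restrictions -/
noncomputable def gammaSq :
    Scheme.Modules.restrictFunctor jV ⋙ Scheme.Modules.pullback gW ≅
      Scheme.Modules.pullback g ⋙ Scheme.Modules.restrictFunctor jW :=
  (adjL w).leftAdjointUniq
    ((Scheme.Modules.pullbackPushforwardAdjunction g).comp (Scheme.Modules.restrictAdjunction jW))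

lemma gammaSq_symm {M : S.Modules} {D : Z.Modules} (a : M ⟶ (Scheme.Modules.pushforward g).obj D) :
    ((Scheme.Modules.pullbackPushforwardAdjunction gW).homEquiv _ _).symm
        ((Scheme.Modules.restrictFunctor jV).map a ≫ (rho w).app D) =
      (gammaSq w).hom.app M ≫ (Scheme.Modules.restrictFunctor jW).map
        (((Scheme.Modules.pullbackPushforwardAdjunction g).homEquiv _ _).symm a) := by
  let adjV := Scheme.Modules.restrictAdjunction jV
  let adjW := Scheme.Modules.restrictAdjunction jW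
  let adjg := Scheme.Modules.pullbackPushforwardAdjunction g
  let adjgW := Scheme.Modules.pullbackPushforwardAdjunction gW
  let r := (Scheme.Modules.restrictFunctor jW).map ((adjg.homEquiv _ _).symm a)
  apply ((adjL w).homEquiv M ((Scheme.Modules.restrictFunctor jW).obj D)).injective
  have h1 : (adjL w).homEquiv M _ ((gammaSq w).hom.app M ≫ r) =
      a ≫ (Scheme.Modules.pushforward g).map (adjW.unit.app D) := by
    rw [Adjunction.homEquiv_naturality_right, gammaSq, Adjunction.homEquiv_leftAdjointUniq_hom_app,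
      Adjunction.comp_unit_app, Functor.comp_map, Category.assoc, ← Functor.map_comp]
    erw [← adjW.unit.naturality ((adjg.homEquiv _ _).symm a)]
    rw [Functor.id_map, Functor.map_comp, ← Category.assoc, ← adjg.homEquiv_unit]
    exact congrArg (· ≫ _) (Equiv.apply_symm_apply (adjg.homEquiv M D) a)
  rw [h1]
  have h2 : adjV.homEquiv _ _ ((Scheme.Modules.restrictFunctor jV).map a ≫ (rho w).app D) =
      a ≫ (Scheme.Modules.pushforward g).map (adjW.unit.app D) ≫ (FlatBCD.bcC w).inv.app _ := by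
    rw [Adjunction.homEquiv_naturality_left]
    exact congrArg (a ≫ ·) (Equiv.apply_symm_apply _ _)
  rw [adjL]
  erw [Adjunction.homEquiv_ofNatIsoRight_apply, Adjunction.comp_homEquiv, Equiv.trans_apply,
    Equiv.apply_symm_apply, h2]
  simp

lemma flat'_f (h : Z ⟶ S) {F : CochainComplex S.Modules ℤ} {D : CochainComplex Z.Modules ℤ}
    (a : F ⟶ (pC h).obj D) (n : ℤ) :
    (flat' h a).f n = ((Scheme.Modules.pullbackPushforwardAdjunction h).homEquiv _ _).symm (a.f n) := by
  refine (Equiv.eq_symm_apply _).2 ?_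
  exact (Adjunction.homEquiv_unit _ _ _ _).trans (flat'_spec h a n).symm

/-- `gammaSq` on complexes -/
noncomputable abbrev gammaC (F : CochainComplex S.Modules ℤ) :
    (qC gW).obj ((rC jV).obj F) ⟶ (rC jW).obj ((qC g).obj F) :=
  { f := fun n => (gammaSq w).hom.app (F.X n)
    comm' := fun i j _ => ((gammaSq w).hom.naturality (F.d i j)).symm }

instance isIso_gammaC (F : CochainComplex S.Modules ℤ) : IsIso (gammaC w F) := by
  haveI : ∀ n, IsIso ((gammaC w F).f n) := fun n => inferInstanceAs (IsIso ((gammaSq w).hom.app (F.X n)))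
  exact HomologicalComplex.Hom.isIso_of_components _

/-- transposes of restrictions -/
theorem flat'_resC {F : CochainComplex S.Modules ℤ} {D : CochainComplex Z.Modules ℤ} (a : F ⟶ (pC g).obj D) :
    flat' gW (resC w a) = gammaC w F ≫ (rC jW).map (flat' g a) := by
  refine HomologicalComplex.hom_ext _ _ fun n => ?_
  rw [HomologicalComplex.comp_f, flat'_f, Functor.mapHomologicalComplex_map_f, flat'_f]
  exact gammaSq_symm w (a.f n)

/-- quasi-isomorphisms over the image -/
theorem qisOn_of_resC {F : CochainComplex S.Modules ℤ} {D : CochainComplex Z.Modules ℤ} (a : F ⟶ (pC g).obj D)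
    (h : QuasiIso (flat' gW (resC w a))) : QisOn jW.opensRange (flat' g a) := by
  rw [qisOn_range_iff]
  rw [flat'_resC] at h
  exact quasiIso_of_comp_left (gammaC w F) _

/-- restricted transposes of quasi-isomorphisms -/
theorem quasiIso_flat'_resC {F : CochainComplex S.Modules ℤ} {D : CochainComplex Z.Modules ℤ}
    (a : F ⟶ (pC g).obj D) [QuasiIso (flat' g a)] : QuasiIso (flat' gW (resC w a)) := by
  rw [flat'_resC]
  infer_instance

section Paste

variable {X X' S S' : Scheme.{u}} {g' : X' ⟶ X} {f : X ⟶ S} {g₀ : S' ⟶ S} {f' : X' ⟶ S'}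
  {Vs Xs Ws Ys : Scheme.{u}} {jV : Vs ⟶ S} {jX : Xs ⟶ X} {jW : Ws ⟶ S'} {jY : Ys ⟶ X'}
  [IsOpenImmersion jV] [IsOpenImmersion jX] [IsOpenImmersion jW] [IsOpenImmersion jY]
  {fV : Xs ⟶ Vs} {gW : Ws ⟶ Vs} {gY : Ys ⟶ Xs} {fY : Ys ⟶ Ws}
  (w : g' ≫ f = f' ≫ g₀) (wf : fV ≫ jV = jX ≫ f) (wg' : gY ≫ jX = jY ≫ g') (wf' : fY ≫ jW = jY ≫ f')
  (wg : gW ≫ jV = jW ≫ g₀) (wW : gY ≫ fV = fY ≫ gW)

/-- restricting the base change isomorphism -/
theorem rho_paste (D : X'.Modules) :
    (rho wf).app ((Scheme.Modules.pushforward g').obj D) ≫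
        (Scheme.Modules.pushforward fV).map ((rho wg').app D) ≫ (FlatBCD.bcC wW).hom.app _ =
      (Scheme.Modules.restrictFunctor jV).map ((FlatBCD.bcC w).hom.app D) ≫
        (rho wg).app ((Scheme.Modules.pushforward f').obj D) ≫
          (Scheme.Modules.pushforward gW).map ((rho wf').app D) := by
  refine Scheme.Modules.hom_ext _ _ fun U => ?_
  refine ConcreteCategory.hom_ext _ _ fun t => ?_
  simp only [Scheme.Modules.Hom.comp_app, ConcreteCategory.comp_apply]
  let Ds := (Scheme.Modules.restrictFunctor jY).obj D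
  let O := jV ''ᵁ U
  let t' : Γ(D, g' ⁻¹ᵁ (f ⁻¹ᵁ O)) := t
  refine Eq.trans (b := QC.res D (show jY ''ᵁ (fY ⁻¹ᵁ (gW ⁻¹ᵁ U)) ≤ g' ⁻¹ᵁ (f ⁻¹ᵁ O) from ?_) t') ?_ ?_
  · refine (rho_le wf' _).trans ((f'.preimage_mono (rho_le wg U)).trans ?_)
    rw [← Scheme.Hom.comp_preimage, ← Scheme.Hom.comp_preimage, w]
  · refine (congrArg (fun z => ((FlatBCD.bcC wW).hom.app Ds).app U (((rho wg').app D).app (fV ⁻¹ᵁ U) z))
      (rho_app wf ((Scheme.Modules.pushforward g').obj D) U t)).trans ?_
    refine (congrArg (((FlatBCD.bcC wW).hom.app Ds).app U) (rho_app wg' D (fV ⁻¹ᵁ U) _)).trans ?_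
    refine (FlatBCD.bcC_app wW Ds U _).trans ?_
    exact (congrArg _ (congrArg _ rfl)).trans ((congrArg (QC.res Ds _) (QC.res_res D _ _ t')).trans (QC.res_res D _ _ t'))
  · refine Eq.trans ?_ (((rho_app wf' D (gW ⁻¹ᵁ U) _)).trans rfl).symm
    refine Eq.trans ?_ (congrArg (QC.res D (rho_le wf' (gW ⁻¹ᵁ U))) (rho_app wg ((Scheme.Modules.pushforward f').obj D) U _)).symm
    refine Eq.trans ?_ (congrArg (fun z => QC.res D (rho_le wf' (gW ⁻¹ᵁ U)) (QC.res ((Scheme.Modules.pushforward f').obj D) (rho_le wg U) z))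
      (FlatBCD.bcC_app w D O t')).symm
    exact ((congrArg _ (QC.res_res D _ _ t')).trans (QC.res_res D _ _ t')).symm

/-- restricting the base change isomorphism of complexes -/
theorem rhoC_paste (D : CochainComplex X'.Modules ℤ) :
    rhoC wf ((pC g').obj D) ≫ (pC fV).map (rhoC wg' D) ≫ bcX wW _ =
      (rC jV).map (bcX w D) ≫ rhoC wg ((pC f').obj D) ≫ (pC gW).map (rhoC wf' D) :=
  HomologicalComplex.hom_ext _ _ fun n => rho_paste w wf wg' wf' wg wW (D.X n)

end Paste

end Groth.Agent.TorBC
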